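import Cfsg.Agent.Lib.Fusion.TwoRank.Examples.Groups

/-!
Example: a double cover of `PGL(2, p)` with generalized quaternion Sylow two-subgroups.
-/

set_option autoImplicit false

namespace CfsgLib.Fusion.TwoRank

open CfsgLib.TwoGroups CfsgLib.TwoGroups.LinearSylowTwo
open Matrix (GeneralLinearGroup det_fin_two det_fin_two_of)
open scoped Matrix MatrixGroups

theorem det_scalar_two {K : Type*} [Field K] (u : Kˣ) :
    GeneralLinearGroup.det (GeneralLinearGroup.scalar (Fin 2) u) = u * u :=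
  Units.ext (by simp [GeneralLinearGroup.scalar, pow_two])

theorem quaternion_oneClass_aux {v : ℕ} (D : Datum v) :
    ∃ (G : Type) (_ : Group G) (_ : Finite G) (f : QuaternionGroup (2 ^ v) →* G),
      Function.Injective f ∧ (∃ T : Sylow 2 G, (T : Subgroup G) = f.range) ∧
      (∃ θ : G →* Multiplicative (ZMod 2), θ (f (.a 1)) = Multiplicative.ofAdd 1 ∧
        θ (f (.xa 0)) = 1) ∧ IsConj (f (.a (2 ^ (v - 1) : ℕ))) (f (.xa 0)) := by
  classical
  haveI : NeZero (2 ^ v) := ⟨pow_ne_zero _ two_ne_zero⟩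
  haveI : NeZero (2 * 2 ^ v) := ⟨mul_ne_zero two_ne_zero (pow_ne_zero _ two_ne_zero)⟩
  have hv := D.hv
  let F := GaloisField D.p 2
  haveI : Fintype F := Fintype.ofFinite F
  have hF : Fintype.card F = D.p ^ 2 := by
    rw [← Nat.card_eq_fintype_card, GaloisField.card D.p 2 two_ne_zero]
  let j : (ZMod D.p)ˣ →* Fˣ := Units.map (algebraMap (ZMod D.p) F).toMonoidHom
  have hjinj : Function.Injective j := Units.map_injective (algebraMap (ZMod D.p) F).injective
  have hchar : ringChar F ≠ 2 := by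
    rw [ringChar.eq F D.p]
    have := D.five_le
    omega
  have hsq : ∀ u : (ZMod D.p)ˣ, ∃ t : Fˣ, t ^ 2 = j u := by
    intro u
    have h : (j u : F) ^ (Fintype.card F / 2) = 1 := by
      obtain ⟨k, hk⟩ : ∃ k, Fintype.card F / 2 = (D.p - 1) * k := by
        obtain ⟨e, he⟩ := D.four_dvd
        refine ⟨(D.p + 1) / 2, ?_⟩
        have h1 : D.p = 4 * e + 1 := by have := D.five_le; omega
        rw [hF, h1, show (4 * e + 1 + 1) / 2 = 2 * e + 1 by omega, show 4 * e + 1 - 1 = 4 * e by omega,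
          show (4 * e + 1) ^ 2 = 2 * (4 * e * (2 * e + 1)) + 1 by ring]
        omega
      rw [← Units.val_pow_eq_pow_val, ← map_pow, hk, pow_mul,
        ZMod.units_pow_card_sub_one_eq_one, one_pow, map_one, Units.val_one]
    obtain ⟨r, hr⟩ := (FiniteField.isSquare_iff hchar (j u).ne_zero).2 h
    have hr0 : r ≠ 0 := fun h0 => (j u).ne_zero (by rw [hr, h0, mul_zero])
    exact ⟨Units.mk0 r hr0, Units.ext (by rw [Units.val_pow_eq_pow_val, Units.val_mk0, pow_two, ← hr])⟩
  let α : Fˣ × GL (Fin 2) (ZMod D.p) →* Fˣ := (powMonoidHom 2).comp (MonoidHom.fst _ _)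
  let β : Fˣ × GL (Fin 2) (ZMod D.p) →* Fˣ :=
    j.comp (GeneralLinearGroup.det.comp (MonoidHom.snd _ _))
  let H : Subgroup (Fˣ × GL (Fin 2) (ZMod D.p)) := α.eqLocus β
  have hmem : ∀ (t : Fˣ) (B : GL (Fin 2) (ZMod D.p)),
      (t, B) ∈ H ↔ t ^ 2 = j (GeneralLinearGroup.det B) := fun t B => Iff.rfl
  let s : (ZMod D.p)ˣ →* H := (j.prod (GeneralLinearGroup.scalar (Fin 2))).codRestrict H fun u => by
    rw [MonoidHom.prod_apply, hmem, det_scalar_two, pow_two, map_mul]
  have hscomm : ∀ u : (ZMod D.p)ˣ, ∀ h : H, h * s u = s u * h := by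
    intro u h
    refine Subtype.ext (Prod.ext (mul_comm _ _) (Units.ext ?_))
    show ((h : Fˣ × GL (Fin 2) (ZMod D.p)).2 : Matrix (Fin 2) (Fin 2) (ZMod D.p)) *
      Matrix.scalar (Fin 2) (u : ZMod D.p) = Matrix.scalar (Fin 2) (u : ZMod D.p) * _
    exact ((Matrix.scalar_commute _ (fun r => Commute.all _ r) _).eq).symm
  haveI : s.range.Normal := ⟨by
    rintro _ ⟨u, rfl⟩ h
    exact ⟨u, by rw [hscomm u h, mul_inv_cancel_right]⟩⟩
  set K := s.range
  set π := QuotientGroup.mk' K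
  have hπ : ∀ u, π (s u) = 1 := fun u => (QuotientGroup.eq_one_iff _).2 ⟨u, rfl⟩
  obtain ⟨c0, hc0⟩ := hsq D.g
  have hX : (c0, D.x) ∈ H := by rw [hmem, Datum.x, D.det_diag, mul_one, hc0]
  have hY : (j D.i, swapGL) ∈ H := by
    rw [hmem, D.det_swap, pow_two, ← map_mul, D.i_mul_i]
  let X : H := ⟨_, hX⟩
  let Y : H := ⟨_, hY⟩
  have hXv : ((X ^ 2 ^ v : H) : Fˣ × GL (Fin 2) (ZMod D.p)) = (j (-1), 1) := by
    rw [SubgroupClass.coe_pow]
    refine Prod.ext ?_ ?_
    · show c0 ^ 2 ^ v = _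
      rw [show 2 ^ v = 2 * 2 ^ (v - 1) by rw [← pow_succ', Nat.sub_add_cancel (by omega)], pow_mul,
        hc0, ← map_pow, D.g_half]
    · show D.x ^ 2 ^ v = 1
      have h := pow_orderOf_eq_one D.x
      rwa [D.orderOf_x] at h
  have hYY : Y * Y = X ^ 2 ^ v := Subtype.ext (by
    rw [hXv, Subgroup.coe_mul]
    exact Prod.ext (show j D.i * j D.i = _ by rw [← map_mul, D.i_mul_i]) swapGL_mul_self)
  have hxN : π X ^ (2 * 2 ^ v) = 1 := by
    rw [← map_pow, show X ^ (2 * 2 ^ v) = 1 from ?_, map_one]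
    refine Subtype.ext ?_
    rw [mul_comm, pow_mul, SubgroupClass.coe_pow, hXv]
    refine Prod.ext ?_ (one_pow 2)
    show (j (-1)) ^ 2 = 1
    rw [← map_pow, neg_one_sq, map_one]
  have hxo : orderOf (π X) = 2 ^ (v + 1) := by
    haveI : Fact (Nat.Prime 2) := ⟨Nat.prime_two⟩
    refine orderOf_eq_prime_pow (fun h => ?_) (by rw [pow_succ']; exact hxN)
    rw [← map_pow] at h
    obtain ⟨u, hu⟩ := (QuotientGroup.eq_one_iff _).1 h
    have hu' := congrArg Subtype.val hu
    rw [hXv] at hu'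
    have h1 : j u = j (-1) := congrArg Prod.fst hu'
    have h2 : GeneralLinearGroup.scalar (Fin 2) u = 1 := congrArg Prod.snd hu'
    obtain rfl : u = -1 := hjinj h1
    have h3 := congrFun (congrFun (congrArg
      (fun B : GL (Fin 2) (ZMod D.p) => (B : Matrix (Fin 2) (Fin 2) (ZMod D.p))) h2) 0) 0
    simp [GeneralLinearGroup.scalar] at h3
    exact D.neg_one_ne (Units.ext h3)
  have hyy : π Y * π Y = π X ^ 2 ^ v := by rw [← map_mul, hYY, map_pow]
  have hc : π Y * π X * (π Y)⁻¹ = (π X)⁻¹ := by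
    rw [eq_inv_iff_mul_eq_one, ← map_inv, ← map_mul, ← map_mul, ← map_mul,
      show Y * X * Y⁻¹ * X = s D.g from ?_, hπ]
    refine Subtype.ext ?_
    rw [Subgroup.coe_mul, Subgroup.coe_mul, Subgroup.coe_mul, Subgroup.coe_inv]
    refine Prod.ext ?_ ?_
    · show j D.i * c0 * (j D.i)⁻¹ * c0 = j D.g
      rw [mul_inv_cancel_comm, ← pow_two, hc0]
    · show swapGL * D.x * swapGL⁻¹ * D.x = GeneralLinearGroup.scalar (Fin 2) D.g
      rw [D.swap_conj, Datum.x, ← map_mul]
      refine Units.ext ?_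
      ext a b
      fin_cases a <;> fin_cases b <;>
        simp [diagHom_val, Matrix.diagonal, GeneralLinearGroup.scalar, Matrix.mul_apply, Fin.sum_univ_two]
  obtain ⟨f, hfa, hfx⟩ := quaternion_hom hxN hyy hc
  have hinj := quaternion_injective (by
    intro h
    rw [show (2 : ZMod (2 * 2 ^ v)) = ((2 : ℕ) : ZMod (2 * 2 ^ v)) by norm_num,
      ZMod.natCast_eq_zero_iff] at h
    have := Nat.le_of_dvd two_pos h
    have := Nat.pow_le_pow_right two_pos D.hv
    omega) (hxo.trans (pow_succ' 2 v)) f hfa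
  have hf1 : f (.a 1) = π X := by
    rw [hfa, show (1 : ZMod (2 * 2 ^ v)) = ((1 : ℕ) : ZMod (2 * 2 ^ v)) by simp, zexp_natCast hxN,
      pow_one]
  have hf0 : f (.xa 0) = π Y := by rw [hfx, zexp_zero, mul_one]
  refine ⟨_, inferInstance, inferInstance, f, hinj, ?_, ?_, ?_⟩
  · obtain ⟨r, hr, hr2⟩ := D.sq_sub_one
    refine sylow_of_card hinj (k := v + 2) (r := D.p * r) ?_ ?_ (D.p_odd.mul hr)
    · rw [Nat.card_eq_fintype_card, QuaternionGroup.card]
      ring
    let pr : H →* GL (Fin 2) (ZMod D.p) := (MonoidHom.snd _ _).comp H.subtype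
    have hker : Nat.card pr.ker = 2 := by
      have hne : (-1 : (ZMod D.p)ˣ) ≠ 1 := D.neg_one_ne
      have hm : (j (-1), (1 : GL (Fin 2) (ZMod D.p))) ∈ H := by
        rw [hmem, map_one, map_one, ← map_pow, neg_one_sq, map_one]
      refine Nat.card_eq_two_iff.2 ⟨⟨1, one_mem _⟩, ⟨⟨_, hm⟩, MonoidHom.mem_ker.2 rfl⟩, ?_, ?_⟩
      · intro h
        have h' := congrArg (fun q : pr.ker => (((q : H) : Fˣ × GL (Fin 2) (ZMod D.p))).1) h
        exact hne (hjinj (h'.symm.trans (map_one j).symm))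
      · refine Set.eq_univ_of_forall fun ⟨⟨⟨t, B⟩, ht⟩, hB⟩ => ?_
        change B = 1 at hB
        subst hB
        rw [hmem, map_one, map_one, pow_two] at ht
        rcases mul_self_eq_one_iff.1 (congrArg Units.val ht :
            ((t : F) * t) = 1) with h | h
        · exact Or.inl (Subtype.ext (Subtype.ext (Prod.ext (Units.ext h) rfl)))
        · refine Or.inr (Subtype.ext (Subtype.ext (Prod.ext (Units.ext ?_) rfl)))
          show (t : F) = algebraMap (ZMod D.p) F ((-1 : (ZMod D.p)ˣ) : ZMod D.p)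
          rw [h, Units.val_neg, Units.val_one, map_neg, map_one]
    have hsurj : Function.Surjective pr := fun B => by
      obtain ⟨t, ht⟩ := hsq (GeneralLinearGroup.det B)
      exact ⟨⟨(t, B), ht⟩, rfl⟩
    have hH := Subgroup.card_eq_card_quotient_mul_card_subgroup pr.ker
    rw [Nat.card_congr (QuotientGroup.quotientKerEquivOfSurjective pr hsurj).toEquiv, hker,
      D.natCard_GL, hr2] at hH
    have hK : Nat.card K = D.p - 1 := by
      have hsinj : Function.Injective s := fun a b h =>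
        hjinj (congrArg (fun q : H => (q : Fˣ × GL (Fin 2) (ZMod D.p)).1) h)
      rw [← Nat.card_congr (MonoidHom.ofInjective hsinj).toEquiv, Nat.card_units,
        Nat.card_zmod]
    have hG := Subgroup.card_eq_card_quotient_mul_card_subgroup K
    rw [hK, hH] at hG
    refine Nat.eq_of_mul_eq_mul_right (show 0 < D.p - 1 by have := D.five_le; omega) ?_
    rw [← hG]
    ring
  · refine ⟨QuotientGroup.lift K
      ((D.sq.comp GeneralLinearGroup.det).comp ((MonoidHom.snd _ _).comp H.subtype)) ?_, ?_, ?_⟩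
    · rintro _ ⟨u, rfl⟩
      show D.sq (GeneralLinearGroup.det (GeneralLinearGroup.scalar (Fin 2) u)) = 1
      rw [det_scalar_two]
      exact D.sq_mul_self u
    · rw [hf1]
      show D.sq (GeneralLinearGroup.det D.x) = _
      rw [Datum.x, D.det_diag, mul_one, D.sq_g]
    · rw [hf0]
      show D.sq (GeneralLinearGroup.det swapGL) = _
      rw [D.det_swap, D.sq_neg_one]
  · obtain ⟨P, hP⟩ := D.exists_conj
    obtain ⟨t, ht⟩ := hsq (GeneralLinearGroup.det P)
    refine _root_.isConj_iff.2 ⟨π ⟨(t, P), ht⟩, ?_⟩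
    rw [hf0, hfa, zexp_natCast hxN, ← map_pow, ← map_inv, ← map_mul, ← map_mul]
    refine congrArg π (Subtype.ext ?_)
    rw [Subgroup.coe_mul, Subgroup.coe_mul, Subgroup.coe_inv, SubgroupClass.coe_pow]
    refine Prod.ext ?_ ?_
    · show t * c0 ^ 2 ^ (v - 1) * t⁻¹ = j D.i
      rw [mul_inv_cancel_comm,
        show 2 ^ (v - 1) = 2 * 2 ^ (v - 2) by rw [← pow_succ']; congr 1; omega, pow_mul, hc0,
        ← map_pow, Datum.i]
    · show P * D.x ^ 2 ^ (v - 1) * P⁻¹ = swapGL
      rw [D.x_half, hP]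

theorem quaternion_oneClass (v : ℕ) (hv : 2 ≤ v) :
    ∃ (G : Type) (_ : Group G) (_ : Finite G) (f : QuaternionGroup (2 ^ v) →* G),
      Function.Injective f ∧ (∃ T : Sylow 2 G, (T : Subgroup G) = f.range) ∧
      (∃ θ : G →* Multiplicative (ZMod 2), θ (f (.a 1)) = Multiplicative.ofAdd 1 ∧
        θ (f (.xa 0)) = 1) ∧ IsConj (f (.a (2 ^ (v - 1) : ℕ))) (f (.xa 0)) :=
  (exists_datum v hv).elim quaternion_oneClass_aux

end CfsgLib.Fusion.TwoRank
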