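import Cfsg.Agent.Lib.Fusion.TwoRank.Examples.Linear

/-!
Examples: the projective and general linear groups of degree two with one active class, and the
special linear groups with two.
-/

set_option autoImplicit false

namespace CfsgLib.Fusion.TwoRank

open CfsgLib.TwoGroups CfsgLib.TwoGroups.LinearSylowTwo
open Matrix (GeneralLinearGroup SpecialLinearGroup det_fin_two det_fin_two_of)
open scoped Matrix MatrixGroups

theorem sylow_of_card {G M : Type*} [Group G] [Finite G] [Group M] {f : M →* G}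
    (hf : Function.Injective f) {k r : ℕ} (hM : Nat.card M = 2 ^ k) (hG : Nat.card G = 2 ^ k * r)
    (hr : Odd r) : ∃ T : Sylow 2 G, (T : Subgroup G) = f.range :=
  exists_sylow_two (by rw [← Nat.card_congr (MonoidHom.ofInjective hf).toEquiv, hM]) hG hr

theorem dihedral_oneClass_aux {v : ℕ} (D : Datum v) :
    ∃ (G : Type) (_ : Group G) (_ : Finite G) (f : DihedralGroup (2 ^ v) →* G),
      Function.Injective f ∧ (∃ T : Sylow 2 G, (T : Subgroup G) = f.range) ∧
      (∃ θ : G →* Multiplicative (ZMod 2), θ (f (.r 1)) = Multiplicative.ofAdd 1 ∧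
        θ (f (.sr 0)) = 1) ∧ IsConj (f (.r (half v))) (f (.sr 0)) := by
  classical
  haveI : NeZero (2 ^ v) := ⟨pow_ne_zero _ two_ne_zero⟩
  set Z := Subgroup.center (GL (Fin 2) (ZMod D.p))
  set π := QuotientGroup.mk' Z
  have hZ : ∀ a b : (ZMod D.p)ˣ, diagHom ![a, b] ∈ Z → a = b := by
    intro a b h
    simp only [Z, GeneralLinearGroup.center_eq_range_scalar] at h
    obtain ⟨u, hu⟩ := h
    have e := fun j => congrArg
      (fun g : GL (Fin 2) (ZMod D.p) => (g : Matrix (Fin 2) (Fin 2) (ZMod D.p)) j j) hu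
    refine Units.ext ?_
    have e0 := e 0
    have e1 := e 1
    simp [diagHom_val] at e0 e1
    rw [← e0, ← e1]
  have hπ : ∀ z ∈ Z, π z = 1 := fun z hz => (QuotientGroup.eq_one_iff z).2 hz
  have hxN : π D.x ^ 2 ^ v = 1 := by
    have h := pow_orderOf_eq_one D.x
    rw [D.orderOf_x] at h
    rw [← map_pow, h, map_one]
  have hx : orderOf (π D.x) = 2 ^ v := by
    refine Nat.dvd_antisymm (orderOf_dvd_of_pow_eq_one hxN) ?_
    have h : π (D.x ^ orderOf (π D.x)) = 1 := by rw [map_pow, pow_orderOf_eq_one]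
    rw [← D.hg]
    refine orderOf_dvd_of_pow_eq_one (hZ _ 1 ?_)
    rw [← D.x_pow]
    exact (QuotientGroup.eq_one_iff _).1 h
  have hy : π swapGL * π swapGL = 1 := by rw [← map_mul, swapGL_mul_self, map_one]
  have hc : π swapGL * π D.x * (π swapGL)⁻¹ = (π D.x)⁻¹ := by
    rw [eq_inv_iff_mul_eq_one, ← map_inv, ← map_mul, ← map_mul, ← map_mul, D.swap_conj, Datum.x,
      ← map_mul]
    refine hπ _ ?_
    simp only [Z, GeneralLinearGroup.center_eq_range_scalar]
    refine ⟨D.g, Units.ext ?_⟩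
    ext a b
    fin_cases a <;> fin_cases b <;> simp [diagHom_val, Matrix.diagonal, Matrix.mul_apply, Fin.sum_univ_two]
  obtain ⟨f, hfr, hfs⟩ := dihedral_hom hxN hy hc
  have hinj := dihedral_injective (by
    intro h
    rw [show (2 : ZMod (2 ^ v)) = ((2 : ℕ) : ZMod (2 ^ v)) by norm_num,
      ZMod.natCast_eq_zero_iff] at h
    have := Nat.le_of_dvd two_pos h
    have := Nat.pow_le_pow_right two_pos D.hv
    omega) hx f hfr
  have hf1 : f (.r 1) = π D.x := by
    rw [hfr, show (1 : ZMod (2 ^ v)) = ((1 : ℕ) : ZMod (2 ^ v)) by simp, zexp_natCast hxN, pow_one]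
  have hf0 : f (.sr 0) = π swapGL := by rw [hfs, zexp_zero, mul_one]
  refine ⟨_, inferInstance, inferInstance, f, hinj, ?_, ?_, ?_⟩
  · obtain ⟨r, hr, hr2⟩ := D.sq_sub_one
    refine sylow_of_card hinj (k := v + 1) (r := D.p * r) (by rw [DihedralGroup.nat_card, pow_succ'])
      ?_ (D.p_odd.mul hr)
    have h := Subgroup.card_eq_card_quotient_mul_card_subgroup Z
    rw [D.natCard_GL, CfsgLib.Classical.card_center_GL, ZMod.card, hr2] at h
    refine Nat.eq_of_mul_eq_mul_right (show 0 < D.p - 1 by have := D.five_le; omega) ?_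
    rw [← h]
    ring
  · refine ⟨QuotientGroup.lift Z (D.sq.comp GeneralLinearGroup.det) ?_, ?_, ?_⟩
    · intro z hz
      simp only [Z, GeneralLinearGroup.center_eq_range_scalar] at hz
      obtain ⟨u, rfl⟩ := hz
      rw [MonoidHom.mem_ker, MonoidHom.comp_apply, show
        GeneralLinearGroup.det (GeneralLinearGroup.scalar (Fin 2) u) = u * u from Units.ext (by
          simp [sq, GeneralLinearGroup.scalar, det_fin_two])]
      exact D.sq_mul_self u
    · rw [hf1]
      show D.sq (GeneralLinearGroup.det D.x) = _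
      rw [Datum.x, D.det_diag, mul_one, D.sq_g]
    · rw [hf0]
      show D.sq (GeneralLinearGroup.det swapGL) = _
      rw [D.det_swap, D.sq_neg_one]
  · obtain ⟨P, hP⟩ := D.exists_conj
    refine _root_.isConj_iff.2 ⟨π P, ?_⟩
    rw [hf0, hfr, show half v = ((2 ^ (v - 1) : ℕ) : ZMod (2 ^ v)) from rfl, zexp_natCast hxN,
      ← map_pow, D.x_half, ← map_inv, ← map_mul, ← map_mul, hP]

theorem dihedral_oneClass (v : ℕ) (hv : 2 ≤ v) :
    ∃ (G : Type) (_ : Group G) (_ : Finite G) (f : DihedralGroup (2 ^ v) →* G),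
      Function.Injective f ∧ (∃ T : Sylow 2 G, (T : Subgroup G) = f.range) ∧
      (∃ θ : G →* Multiplicative (ZMod 2), θ (f (.r 1)) = Multiplicative.ofAdd 1 ∧
        θ (f (.sr 0)) = 1) ∧ IsConj (f (.r (half v))) (f (.sr 0)) :=
  (exists_datum v hv).elim dihedral_oneClass_aux

theorem wreath_oneClass_aux (m : ℕ) (D : Datum (m + 2)) :
    ∃ (G : Type) (_ : Group G) (_ : Finite G) (f : WreathTwo m →* G),
      Function.Injective f ∧ (∃ T : Sylow 2 G, (T : Subgroup G) = f.range) ∧
      (∃ θ : G →* Multiplicative (ZMod 2), θ (f (WreathTwo.u 1 0)) = Multiplicative.ofAdd 1 ∧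
        θ (f (WreathTwo.u 0 1)) = Multiplicative.ofAdd 1 ∧ θ (f (WreathTwo.w 0 0)) = 1) ∧
      IsConj (f (WreathTwo.u (WreathTwo.h m) 0)) (f (WreathTwo.w 0 0)) := by
  classical
  haveI : NeZero (2 ^ (m + 2)) := ⟨pow_ne_zero _ two_ne_zero⟩
  have hxN : D.x ^ 2 ^ (m + 2) = 1 := by
    have h := pow_orderOf_eq_one D.x
    rwa [D.orderOf_x] at h
  have hc : Commute D.x (swapGL * D.x * swapGL⁻¹) := by
    rw [D.swap_conj]; exact (wreath_elements D.g).1
  obtain ⟨f, hfu, hfw⟩ := wreath_hom hxN swapGL_mul_self hc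
  have hz1 : ∀ b : ZMod (2 ^ (m + 2)),
      zexp (swapGL * D.x * swapGL⁻¹) b = diagHom ![1, D.g ^ b.val] := by
    intro b
    rw [zexp, D.swap_conj, ← map_pow]
    congr 1
    funext j
    fin_cases j <;> simp
  have hval : ∀ a b, f (WreathTwo.u a b) = diagHom ![D.g ^ a.val, D.g ^ b.val] := by
    intro a b
    rw [hfu, zexp, D.x_pow, hz1, ← map_mul]
    congr 1
    funext j
    fin_cases j <;> simp
  have hinj : Function.Injective f := by
    rw [injective_iff_map_eq_one]
    rintro ⟨a, b, e⟩ h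
    cases e
    · rw [hval, ← map_one diagHom] at h
      have h' := diagHom_injective h
      have h0 : D.g ^ a.val = 1 := by simpa using congrFun h' 0
      have h1 : D.g ^ b.val = 1 := by simpa using congrFun h' 1
      have hz : ∀ c : ZMod (2 ^ (m + 2)), D.g ^ c.val = 1 → c = 0 := fun c hc' =>
        zexp_injective D.hg (show zexp D.g c = zexp D.g 0 by rw [zexp, hc', zexp_zero])
      rw [WreathTwo.one_def, hz a h0, hz b h1]
    · exfalso
      have hs : f ⟨a, b, true⟩ = diagHom ![D.g ^ a.val, D.g ^ b.val] * swapGL := by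
        rw [hfw, ← hfu, hval]
      rw [hs] at h
      have := congrFun (congrFun (congrArg
        (fun g : GL (Fin 2) (ZMod D.p) => (g : Matrix (Fin 2) (Fin 2) (ZMod D.p))) h) 0) 0
      simp [diagHom_val, swapGL, Matrix.mul_apply] at this
  have hf10 : f (WreathTwo.u 1 0) = diagHom ![D.g, 1] := by
    rw [hfu, zexp_zero, mul_one,
      show (1 : ZMod (2 ^ (m + 2))) = ((1 : ℕ) : ZMod (2 ^ (m + 2))) by simp, zexp_natCast hxN,
      pow_one]
    rfl
  have hf00 : f (WreathTwo.w 0 0) = swapGL := by rw [hfw, zexp_zero, zexp_zero, one_mul, one_mul]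
  refine ⟨_, inferInstance, inferInstance, f, hinj, ?_,
    ⟨D.sq.comp GeneralLinearGroup.det, ?_, ?_, ?_⟩, ?_⟩
  · obtain ⟨r, hr, hr2⟩ := D.sq_sub_one
    refine sylow_of_card hinj (r := D.p * (2 * D.c + 1) * r) WreathTwo.natCard ?_
      ((D.p_odd.mul (odd_two_mul_add_one _)).mul hr)
    rw [D.natCard_GL, D.hc, hr2]
    ring
  · rw [hf10, MonoidHom.comp_apply, D.det_diag, mul_one, D.sq_g]
  · have e : (WreathTwo.u 0 1 : WreathTwo m) =
        WreathTwo.w 0 0 * WreathTwo.u 1 0 * (WreathTwo.w 0 0)⁻¹ := (WreathTwo.w_conj_u 0 0 1 0).symm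
    rw [e, map_mul, map_mul, map_mul, map_mul, map_inv, map_inv, mul_inv_cancel_comm, hf10,
      MonoidHom.comp_apply, D.det_diag, mul_one, D.sq_g]
  · rw [hf00, MonoidHom.comp_apply, D.det_swap, D.sq_neg_one]
  · obtain ⟨P, hP⟩ := D.exists_conj
    refine _root_.isConj_iff.2 ⟨P, ?_⟩
    rw [hf00, hfu, zexp_zero, mul_one,
      show WreathTwo.h m = ((2 ^ (m + 2 - 1) : ℕ) : ZMod (2 ^ (m + 2))) from rfl,
      zexp_natCast hxN, D.x_half, hP]

theorem wreath_oneClass (m : ℕ) :
    ∃ (G : Type) (_ : Group G) (_ : Finite G) (f : WreathTwo m →* G),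
      Function.Injective f ∧ (∃ T : Sylow 2 G, (T : Subgroup G) = f.range) ∧
      (∃ θ : G →* Multiplicative (ZMod 2), θ (f (WreathTwo.u 1 0)) = Multiplicative.ofAdd 1 ∧
        θ (f (WreathTwo.u 0 1)) = Multiplicative.ofAdd 1 ∧ θ (f (WreathTwo.w 0 0)) = 1) ∧
      IsConj (f (WreathTwo.u (WreathTwo.h m) 0)) (f (WreathTwo.w 0 0)) :=
  (exists_datum (m + 2) (by omega)).elim (wreath_oneClass_aux m)

end CfsgLib.Fusion.TwoRank
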