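import Cfsg.Agent.Lib.TwoGroups.Recognition
import Cfsg.Agent.Lib.TwoGroups.SemiDihedral
import Cfsg.Agent.Lib.TwoGroups.Wreathed

/-!
Homomorphisms out of the model two-groups from generators and relations.
-/

set_option autoImplicit false

namespace CfsgLib.Fusion.TwoRank

open CfsgLib.TwoGroups

variable {G : Type*} [Group G]

/-- A homomorphism is injective once its kernel meets `A` trivially and every element outside `A`
has a commutator in `A` which is not one. -/
theorem injective_of_commutator {M : Type*} [Group M] (f : M →* G) (A : Set M)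
    (hA : ∀ a ∈ A, f a = 1 → a = 1)
    (hc : ∀ g ∉ A, ∃ h : M, h * g * h⁻¹ * g⁻¹ ∈ A ∧ h * g * h⁻¹ * g⁻¹ ≠ 1) :
    Function.Injective f := by
  rw [injective_iff_map_eq_one]
  intro g hg
  by_cases hgA : g ∈ A
  · exact hA g hgA hg
  · obtain ⟨h, h1, h2⟩ := hc g hgA
    exact absurd (hA _ h1 (by simp [hg])) h2

theorem dihedral_hom {N : ℕ} [NeZero N] {x y : G} (hx : x ^ N = 1) (hy : y * y = 1)
    (hc : y * x * y⁻¹ = x⁻¹) :
    ∃ f : DihedralGroup N →* G, (∀ i, f (.r i) = zexp x i) ∧ ∀ i, f (.sr i) = y * zexp x i := by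
  have hconj : ∀ i : ZMod N, zexp x i * y = y * (zexp x i)⁻¹ := by
    intro i
    have h := zexp_conj hc (-i)
    rw [zexp_neg hx, inv_inv] at h
    calc zexp x i * y = y * (zexp x i)⁻¹ * y⁻¹ * y := by rw [h]
      _ = y * (zexp x i)⁻¹ := by group
  refine ⟨{
    toFun := fun g => match g with
      | .r i => zexp x i
      | .sr i => y * zexp x i
    map_one' := zexp_zero x
    map_mul' := ?_ }, fun i => rfl, fun i => rfl⟩
  rintro (i | i) (j | j)
  · exact zexp_add hx i j
  · show y * zexp x (j - i) = zexp x i * (y * zexp x j)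
    rw [← mul_assoc, hconj, zexp_sub hx, mul_assoc]
  · show y * zexp x (i + j) = y * zexp x i * zexp x j
    rw [zexp_add hx, mul_assoc]
  · show zexp x (j - i) = y * zexp x i * (y * zexp x j)
    rw [mul_assoc, ← mul_assoc (zexp x i), hconj, ← mul_assoc, ← mul_assoc, hy, one_mul,
      zexp_sub hx]

theorem dihedral_injective {N : ℕ} [NeZero N] (h2 : (2 : ZMod N) ≠ 0) {x : G}
    (hx : orderOf x = N) (f : DihedralGroup N →* G) (hf : ∀ i, f (.r i) = zexp x i) :
    Function.Injective f := by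
  refine injective_of_commutator f (Set.range DihedralGroup.r) ?_ ?_
  · rintro _ ⟨i, rfl⟩ hi
    rw [hf, ← zexp_zero (N := N) x] at hi
    rw [zexp_injective hx hi]; rfl
  · intro g hg
    rcases g with i | i
    · exact absurd ⟨i, rfl⟩ hg
    · have e : DihedralGroup.r (1 : ZMod N) * DihedralGroup.sr i * (DihedralGroup.r 1)⁻¹ *
          (DihedralGroup.sr i)⁻¹ = DihedralGroup.r 2 := by
        rw [mul_inv_eq_iff_eq_mul, mul_inv_eq_iff_eq_mul, DihedralGroup.r_mul_sr,
          DihedralGroup.r_mul_sr, DihedralGroup.sr_mul_r]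
        congr 1
        ring
      exact ⟨.r 1, ⟨2, e.symm⟩, fun h => h2 (DihedralGroup.r.inj ((e.symm.trans h).trans
        DihedralGroup.one_def))⟩

theorem quaternion_hom {n : ℕ} [NeZero n] {x y : G} (hx : x ^ (2 * n) = 1) (hy : y * y = x ^ n)
    (hc : y * x * y⁻¹ = x⁻¹) :
    ∃ f : QuaternionGroup n →* G, (∀ i, f (.a i) = zexp x i) ∧
      ∀ i, f (.xa i) = y * zexp x i := by
  haveI : NeZero (2 * n) := ⟨mul_ne_zero two_ne_zero (NeZero.ne n)⟩
  have hconj : ∀ i : ZMod (2 * n), zexp x i * y = y * (zexp x i)⁻¹ := by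
    intro i
    have h := zexp_conj hc (-i)
    rw [zexp_neg hx, inv_inv] at h
    calc zexp x i * y = y * (zexp x i)⁻¹ * y⁻¹ * y := by rw [h]
      _ = y * (zexp x i)⁻¹ := by group
  refine ⟨{
    toFun := fun g => match g with
      | .a i => zexp x i
      | .xa i => y * zexp x i
    map_one' := zexp_zero x
    map_mul' := ?_ }, fun i => rfl, fun i => rfl⟩
  rintro (i | i) (j | j)
  · exact zexp_add hx i j
  · show y * zexp x (j - i) = zexp x i * (y * zexp x j)
    rw [← mul_assoc, hconj, zexp_sub hx, mul_assoc]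
  · show y * zexp x (i + j) = y * zexp x i * zexp x j
    rw [zexp_add hx, mul_assoc]
  · show zexp x ((n : ZMod (2 * n)) + j - i) = y * zexp x i * (y * zexp x j)
    rw [mul_assoc, ← mul_assoc (zexp x i), hconj, ← mul_assoc, ← mul_assoc, hy, mul_assoc,
      ← zexp_natCast (N := 2 * n) hx, ← zexp_sub hx, ← zexp_add hx, add_sub_assoc]

theorem quaternion_injective {n : ℕ} [NeZero n] (h2 : (2 : ZMod (2 * n)) ≠ 0) {x : G}
    (hx : orderOf x = 2 * n) (f : QuaternionGroup n →* G) (hf : ∀ i, f (.a i) = zexp x i) :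
    Function.Injective f := by
  haveI : NeZero (2 * n) := ⟨mul_ne_zero two_ne_zero (NeZero.ne n)⟩
  refine injective_of_commutator f (Set.range QuaternionGroup.a) ?_ ?_
  · rintro _ ⟨i, rfl⟩ hi
    rw [hf, ← zexp_zero (N := 2 * n) x] at hi
    rw [zexp_injective hx hi]; rfl
  · intro g hg
    rcases g with i | i
    · exact absurd ⟨i, rfl⟩ hg
    · have e : QuaternionGroup.a (1 : ZMod (2 * n)) * QuaternionGroup.xa i *
          (QuaternionGroup.a 1)⁻¹ * (QuaternionGroup.xa i)⁻¹ = QuaternionGroup.a 2 := by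
        rw [mul_inv_eq_iff_eq_mul, mul_inv_eq_iff_eq_mul, QuaternionGroup.a_mul_xa,
          QuaternionGroup.a_mul_xa, QuaternionGroup.xa_mul_a]
        congr 1
        ring
      exact ⟨.a 1, ⟨2, e.symm⟩, fun h => h2 (QuaternionGroup.a.inj ((e.symm.trans h).trans
        QuaternionGroup.one_def))⟩

theorem semiDihedral_hom {m : ℕ} {x y : G} (hx : x ^ 2 ^ (m + 3) = 1) (hy : y * y = 1)
    (hc : y * x * y⁻¹ = x ^ (2 ^ (m + 2) - 1)) :
    ∃ f : SemiDihedral m →* G, (∀ b, f (SemiDihedral.rot b) = zexp x b) ∧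
      ∀ a, f (SemiDihedral.ref a) = zexp x a * y := by
  haveI : NeZero (2 ^ (m + 3)) := ⟨pow_ne_zero _ two_ne_zero⟩
  have hcast : ((2 ^ (m + 2) - 1 : ℕ) : ZMod (2 ^ (m + 3))) = SemiDihedral.h m - 1 := by
    rw [Nat.cast_sub Nat.one_le_two_pow, Nat.cast_one]; rfl
  have hconj : ∀ b : ZMod (2 ^ (m + 3)),
      y * zexp x b = zexp x (SemiDihedral.h m * b - b) * y := by
    intro b
    have h1 : y * zexp x b * y⁻¹ = zexp x (SemiDihedral.h m * b - b) := by
      rw [zexp, ← conj_pow, hc, ← pow_mul, ← zexp_natCast hx, Nat.cast_mul, hcast,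
        ZMod.natCast_zmod_val, sub_mul, one_mul]
    rw [← h1]; group
  refine ⟨{
    toFun := fun g => zexp x g.a * if g.e then y else 1
    map_one' := by simp [SemiDihedral.one_def, zexp_zero]
    map_mul' := ?_ }, fun b => by simp, fun a => by simp⟩
  refine SemiDihedral.cases' (fun b => SemiDihedral.cases' (fun c => ?_) (fun c => ?_))
    (fun a => SemiDihedral.cases' (fun c => ?_) (fun c => ?_))
  · simp [zexp_add hx]
  · simp [zexp_add hx, mul_assoc]
  · simp [zexp_add hx, mul_assoc, hconj]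
  · simp only [SemiDihedral.ref_mul_ref, zexp_add hx, if_true, Bool.false_eq_true, if_false,
      mul_one]
    rw [mul_assoc (zexp x a) y, ← mul_assoc y, hconj, mul_assoc _ y y, hy, mul_one]

theorem semiDihedral_injective {m : ℕ} {x : G} (hx : orderOf x = 2 ^ (m + 3))
    (f : SemiDihedral m →* G) (hf : ∀ b, f (SemiDihedral.rot b) = zexp x b) :
    Function.Injective f := by
  haveI : NeZero (2 ^ (m + 3)) := ⟨pow_ne_zero _ two_ne_zero⟩
  refine injective_of_commutator f (Set.range SemiDihedral.rot) ?_ ?_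
  · rintro _ ⟨i, rfl⟩ hi
    rw [hf, ← zexp_zero (N := 2 ^ (m + 3)) x] at hi
    rw [zexp_injective hx hi]; rfl
  · intro g hg
    induction g using SemiDihedral.cases' with
    | hr b => exact absurd ⟨b, rfl⟩ hg
    | hs a =>
      have e : SemiDihedral.rot 1 * SemiDihedral.ref a * (SemiDihedral.rot 1)⁻¹ *
          (SemiDihedral.ref a)⁻¹ = SemiDihedral.rot (2 - SemiDihedral.h m) := by
        rw [SemiDihedral.rot_conj_ref, mul_inv_eq_iff_eq_mul, SemiDihedral.rot_mul_ref]
        congr 1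
        ring
      refine ⟨SemiDihedral.rot 1, ⟨_, e.symm⟩, fun h => ?_⟩
      replace h := congrArg SemiDihedral.a ((e.symm.trans h).trans SemiDihedral.one_def)
      have h4 : (4 : ZMod (2 ^ (m + 3))) = 0 := by
        linear_combination 2 * h + SemiDihedral.two_mul_h (m := m)
      rw [show (4 : ZMod (2 ^ (m + 3))) = ((4 : ℕ) : ZMod (2 ^ (m + 3))) by norm_num,
        ZMod.natCast_eq_zero_iff] at h4
      have := Nat.le_of_dvd (by norm_num) h4
      have := Nat.pow_le_pow_right two_pos (show 3 ≤ m + 3 by omega)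
      omega

theorem wreath_hom {m : ℕ} {x y : G} (hx : x ^ 2 ^ (m + 2) = 1) (hy : y * y = 1)
    (hc : Commute x (y * x * y⁻¹)) :
    ∃ f : WreathTwo m →* G, (∀ a b, f (WreathTwo.u a b) = zexp x a * zexp (y * x * y⁻¹) b) ∧
      ∀ a b, f (WreathTwo.w a b) = zexp x a * zexp (y * x * y⁻¹) b * y := by
  haveI : NeZero (2 ^ (m + 2)) := ⟨pow_ne_zero _ two_ne_zero⟩
  set z := y * x * y⁻¹ with hz
  have hzN : z ^ 2 ^ (m + 2) = 1 := by rw [hz, conj_pow, hx, mul_one, mul_inv_cancel]
  have hyi : y⁻¹ = y := inv_eq_of_mul_eq_one_right hy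
  have hzx : y * z = x * y := by
    rw [hz, hyi, ← mul_assoc, ← mul_assoc, hy, one_mul]
  have hxz : y * x = z * y := by rw [hz, inv_mul_cancel_right]
  have hcz : ∀ a b : ZMod (2 ^ (m + 2)), Commute (zexp x a) (zexp z b) := fun a b =>
    hc.pow_pow _ _
  have hsw : ∀ a b : ZMod (2 ^ (m + 2)),
      y * (zexp x a * zexp z b) = zexp x b * zexp z a * y := by
    intro a b
    have h1 : SemiconjBy y (zexp x a) (zexp z a) := SemiconjBy.pow_right hxz _
    have h2 : SemiconjBy y (zexp z b) (zexp x b) := SemiconjBy.pow_right hzx _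
    rw [(hcz b a).eq]
    exact h1.mul_right h2
  refine ⟨{
    toFun := fun g => zexp x g.a * zexp z g.b * if g.e then y else 1
    map_one' := by simp [WreathTwo.one_def, zexp_zero]
    map_mul' := ?_ }, fun a b => by simp, fun a b => by simp⟩
  have hadd : ∀ a b c d : ZMod (2 ^ (m + 2)),
      zexp x a * zexp z b * (zexp x c * zexp z d) = zexp x (a + c) * zexp z (b + d) := by
    intro a b c d
    rw [zexp_add hx, zexp_add hzN, (hcz c b).mul_mul_mul_comm]
  rintro ⟨a, b, e⟩ ⟨c, d, e'⟩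
  cases e <;> cases e' <;>
    simp only [WreathTwo.mul_def, if_true, Bool.false_eq_true, if_false, Bool.xor_false,
      Bool.false_xor, Bool.xor_self, Bool.xor_true, Bool.not_false, mul_one]
  · rw [hadd]
  · rw [← mul_assoc, hadd]
  · rw [mul_assoc _ y, hsw, ← mul_assoc, hadd]
  · rw [mul_assoc _ y, ← mul_assoc y, hsw, mul_assoc _ y y, hy, mul_one, hadd]

end CfsgLib.Fusion.TwoRank
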