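import Cfsg.Agent.Lib.Fusion.TwoRank.Examples.Homs
import Cfsg.Agent.Lib.Fusion.LinearExamples
import Cfsg.Agent.Lib.Classical.SmallIso
import Cfsg.Agent.Lib.TwoGroups.LinearSylowTwo
import Cfsg.Agent.Lib.Classical.LinearOrder

/-!
Linear groups over a prime field `p ≡ 1 + 2 ^ v (mod 2 ^ (v + 1))` and their Sylow two-subgroups.
-/

set_option autoImplicit false

namespace CfsgLib.Fusion.TwoRank

open CfsgLib.TwoGroups CfsgLib.TwoGroups.LinearSylowTwo
open Matrix (GeneralLinearGroup SpecialLinearGroup det_fin_two det_fin_two_of)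
open scoped Matrix MatrixGroups

/-- A prime field with a root of unity of order exactly the two-part of `p - 1`. -/
structure Datum (v : ℕ) where
  p : ℕ
  hp : Fact p.Prime
  g : (ZMod p)ˣ
  c : ℕ
  hc : p - 1 = 2 ^ v * (2 * c + 1)
  hg : orderOf g = 2 ^ v
  hv : 2 ≤ v

theorem exists_datum (v : ℕ) (hv : 2 ≤ v) : Nonempty (Datum v) := by
  have hlt : 2 ^ v + 1 < 2 ^ (v + 1) := by
    have := Nat.pow_le_pow_right two_pos hv
    rw [pow_succ]; omega
  obtain ⟨p, -, hp, hmod⟩ := Nat.forall_exists_prime_gt_and_modEq 0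
    (q := 2 ^ (v + 1)) (a := 2 ^ v + 1) (pow_ne_zero _ two_ne_zero) (by
      refine Nat.Coprime.pow_right _ (Nat.coprime_two_right.2 ?_)
      exact (Nat.even_pow.2 ⟨even_two, by omega⟩).add_one)
  have hmod' : p % 2 ^ (v + 1) = 2 ^ v + 1 := Eq.trans hmod (Nat.mod_eq_of_lt hlt)
  have hdm := Nat.div_add_mod p (2 ^ (v + 1))
  rw [hmod'] at hdm
  haveI : Fact p.Prime := ⟨hp⟩
  have hc : p - 1 = 2 ^ v * (2 * (p / 2 ^ (v + 1)) + 1) := by
    rw [pow_succ] at hdm ⊢
    rw [Nat.mul_add, mul_one, ← mul_assoc]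
    omega
  obtain ⟨g, hg⟩ := exists_orderOf_units (F := ZMod p) (d := 2 ^ v) (by
    rw [ZMod.card, hc]; exact dvd_mul_right _ _)
  exact ⟨⟨p, ⟨hp⟩, g, _, hc, hg, hv⟩⟩

namespace Datum

variable {v : ℕ} (D : Datum v)

instance : Fact D.p.Prime := D.hp

theorem four_dvd : 4 ∣ D.p - 1 := by
  rw [D.hc]
  exact Dvd.dvd.mul_right (pow_dvd_pow 2 D.hv : 2 ^ 2 ∣ 2 ^ v) _

theorem five_le : 5 ≤ D.p := by
  have h := D.four_dvd
  have := D.hp.out.two_le
  omega

theorem two_ne : (2 : ZMod D.p) ≠ 0 := by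
  intro h
  rw [show (2 : ZMod D.p) = ((2 : ℕ) : ZMod D.p) by norm_num, ZMod.natCast_eq_zero_iff] at h
  have := Nat.le_of_dvd two_pos h
  have := D.five_le
  omega

theorem neg_one_ne : (-1 : (ZMod D.p)ˣ) ≠ 1 := by
  intro h
  have h' : ((-1 : ZMod D.p)) = 1 := congrArg Units.val h
  exact D.two_ne (by linear_combination -h')

theorem g_half : D.g ^ 2 ^ (v - 1) = -1 := by
  have h1 : (D.g ^ 2 ^ (v - 1)) * D.g ^ 2 ^ (v - 1) = 1 := by
    rw [← pow_add, ← two_mul, ← pow_succ', Nat.sub_add_cancel (by have := D.hv; omega)]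
    have h := pow_orderOf_eq_one D.g
    rwa [D.hg] at h
  have h2 : D.g ^ 2 ^ (v - 1) ≠ 1 := fun h => by
    have := Nat.le_of_dvd (by positivity) (D.hg ▸ orderOf_dvd_of_pow_eq_one h)
    have hlt : 2 ^ (v - 1) < 2 ^ v :=
      Nat.pow_lt_pow_right one_lt_two (by have := D.hv; omega)
    omega
  rcases mul_self_eq_one_iff.1 (congrArg Units.val h1 :
      ((D.g ^ 2 ^ (v - 1) : (ZMod D.p)ˣ) : ZMod D.p) * _ = 1) with h | h
  · exact absurd (Units.ext h) h2
  · exact Units.ext h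

/-- The square root of `-1`. -/
def i : (ZMod D.p)ˣ := D.g ^ 2 ^ (v - 2)

theorem i_mul_i : D.i * D.i = -1 := by
  rw [i, ← pow_add, ← two_mul, ← pow_succ', show v - 2 + 1 = v - 1 by have := D.hv; omega, g_half]

theorem i_mul_i' : (D.i : ZMod D.p) * D.i = -1 := congrArg Units.val D.i_mul_i

theorem pow_half (u : (ZMod D.p)ˣ) :
    u ^ ((D.p - 1) / 2) = 1 ∨ u ^ ((D.p - 1) / 2) = -1 := by
  have h : u ^ ((D.p - 1) / 2) * u ^ ((D.p - 1) / 2) = 1 := by
    rw [← pow_add, ← two_mul, Nat.mul_div_cancel' (dvd_trans (by norm_num) D.four_dvd)]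
    exact ZMod.units_pow_card_sub_one_eq_one _ u
  rcases mul_self_eq_one_iff.1 (congrArg Units.val h :
      ((u ^ ((D.p - 1) / 2) : (ZMod D.p)ˣ) : ZMod D.p) * _ = 1) with h' | h'
  · exact Or.inl (Units.ext h')
  · exact Or.inr (Units.ext h')

/-- The quadratic character. -/
def sq : (ZMod D.p)ˣ →* Multiplicative (ZMod 2) where
  toFun u := if u ^ ((D.p - 1) / 2) = 1 then 1 else Multiplicative.ofAdd 1
  map_one' := by simp
  map_mul' u w := by
    have hne := D.neg_one_ne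
    rcases D.pow_half u with hu | hu <;> rcases D.pow_half w with hw | hw <;>
      simp [mul_pow, hu, hw, hne] <;> rfl

theorem sq_g : D.sq D.g = Multiplicative.ofAdd 1 := by
  show (if _ then _ else _) = _
  rw [if_neg]
  rw [D.hc, show 2 ^ v * (2 * D.c + 1) / 2 = 2 ^ (v - 1) * (2 * D.c + 1) by
    rw [show 2 ^ v = 2 * 2 ^ (v - 1) by
      rw [← pow_succ', Nat.sub_add_cancel (by have := D.hv; omega)], mul_assoc,
      Nat.mul_div_cancel_left _ two_pos], pow_mul, D.g_half, Odd.neg_one_pow ⟨D.c, rfl⟩]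
  exact D.neg_one_ne

theorem sq_mul_self (u : (ZMod D.p)ˣ) : D.sq (u * u) = 1 := by
  rw [map_mul]
  generalize D.sq u = t
  revert t
  decide

theorem sq_neg_one : D.sq (-1) = 1 := by rw [← D.i_mul_i, sq_mul_self]

/-- The diagonal element. -/
noncomputable def x : GL (Fin 2) (ZMod D.p) := diagHom ![D.g, 1]

theorem det_diag (a b : (ZMod D.p)ˣ) : GeneralLinearGroup.det (diagHom ![a, b]) = a * b := by
  refine Units.ext ?_
  show Matrix.det (diagHom ![a, b] : Matrix (Fin 2) (Fin 2) (ZMod D.p)) = _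
  rw [diagHom_val, det_fin_two]
  simp

theorem det_swap : GeneralLinearGroup.det (swapGL : GL (Fin 2) (ZMod D.p)) = -1 := by
  refine Units.ext ?_
  show Matrix.det !![(0 : ZMod D.p), 1; 1, 0] = _
  rw [det_fin_two_of]
  simp

theorem x_pow (k : ℕ) : D.x ^ k = diagHom ![D.g ^ k, 1] := by
  rw [x, ← map_pow]
  congr 1
  funext j
  fin_cases j <;> simp

theorem x_half : D.x ^ 2 ^ (v - 1) = diagHom ![-1, 1] := by rw [x_pow, g_half]

theorem orderOf_x : orderOf D.x = 2 ^ v := by rw [x, orderOf_diag_left, D.hg]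

theorem swap_conj : swapGL * D.x * swapGL⁻¹ = diagHom ![1, D.g] := by
  rw [x, swapGL_conj]; simp

theorem exists_conj : ∃ P : GL (Fin 2) (ZMod D.p),
    P * diagHom ![-1, 1] * P⁻¹ = swapGL := by
  refine ⟨GeneralLinearGroup.mkOfDetNeZero !![1, 1; -1, 1] (by
    rw [det_fin_two_of]; simpa [one_add_one_eq_two] using D.two_ne), ?_⟩
  rw [mul_inv_eq_iff_eq_mul]
  refine Units.ext ?_
  show (!![1, 1; -1, 1] : Matrix (Fin 2) (Fin 2) (ZMod D.p)) *
      (Matrix.diagonal fun j => ((![-1, 1] : Fin 2 → (ZMod D.p)ˣ) j : ZMod D.p)) =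
    !![0, 1; 1, 0] * !![1, 1; -1, 1]
  ext a b
  fin_cases a <;> fin_cases b <;> simp [Matrix.mul_apply, Fin.sum_univ_two, Matrix.diagonal]

theorem natCard_GL : Nat.card (GL (Fin 2) (ZMod D.p)) = D.p * (D.p - 1) * (D.p ^ 2 - 1) := by
  rw [CfsgLib.Classical.card_GL_eq]
  simp only [Finset.prod_range_succ, Finset.prod_range_zero, one_mul, zero_add, pow_one,
    Nat.reduceMul, Nat.reduceSub, Nat.reduceDiv, Nat.reduceAdd, ZMod.card]
  ring

theorem natCard_SL : Nat.card SL(2, ZMod D.p) = D.p * (D.p ^ 2 - 1) := by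
  rw [CfsgLib.Classical.Two.card_SL_two, ZMod.card]

theorem sq_sub_one : ∃ r, Odd r ∧ D.p ^ 2 - 1 = 2 ^ (v + 1) * r := by
  refine ⟨(2 * D.c + 1) * (2 ^ (v - 1) * (2 * D.c + 1) + 1), (odd_two_mul_add_one _).mul
    ((Nat.even_pow.2 ⟨even_two, by have := D.hv; omega⟩).mul_right _).add_one, ?_⟩
  have h : D.p + 1 = 2 * (2 ^ (v - 1) * (2 * D.c + 1) + 1) := by
    rw [Nat.mul_add, ← mul_assoc, ← pow_succ', Nat.sub_add_cancel (by have := D.hv; omega), ← D.hc]
    have := D.five_le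
    omega
  rw [show D.p ^ 2 - 1 = (D.p + 1) * (D.p - 1) by simpa using Nat.sq_sub_sq D.p 1, h, D.hc,
    pow_succ]
  ring

theorem p_odd : Odd D.p := D.hp.out.odd_of_ne_two (by have := D.five_le; omega)

end Datum

end CfsgLib.Fusion.TwoRank
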