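import Cfsg.Agent.Lib.Fusion.TwoRank.Examples.Groups

/-!
Examples with semidihedral Sylow two-subgroups and one active class: `GL(2, q)` for `q ≡ 3 (mod 4)`,
and an extension of `PSL(2, p ^ 2)` by a twisted field automorphism.
-/

set_option autoImplicit false

namespace CfsgLib.Fusion.TwoRank

open CfsgLib.TwoGroups CfsgLib.TwoGroups.LinearSylowTwo
open Matrix (GeneralLinearGroup det_fin_two det_fin_two_of)
open scoped Matrix MatrixGroups

theorem semiDihedral_quaternionClass (m : ℕ) :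
    ∃ (G : Type) (_ : Group G) (_ : Finite G) (f : SemiDihedral m →* G),
      Function.Injective f ∧ (∃ T : Sylow 2 G, (T : Subgroup G) = f.range) ∧
      (∃ (A : Type) (_ : CommGroup A) (θ : G →* A), θ (f (SemiDihedral.rot 1)) ≠ 1 ∧
        θ (f (SemiDihedral.rot 1)) ^ 2 = 1 ∧
        θ (f (SemiDihedral.ref 0)) = θ (f (SemiDihedral.rot 1))) ∧
      IsConj (f (SemiDihedral.ref 1)) (f (SemiDihedral.rot (SemiDihedral.q m))) := by
  obtain ⟨q, hqp, hq⟩ := exists_prime_residue (m + 2) (by omega)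
  haveI : Fact q.Prime := ⟨hqp⟩
  haveI : NeZero (2 ^ (m + 3)) := ⟨pow_ne_zero _ two_ne_zero⟩
  obtain ⟨D⟩ := exists_sylowData (q := q) (s := m + 2) (by omega) hq
  have hxN : D.a ^ 2 ^ (m + 3) = 1 := by
    have h := pow_orderOf_eq_one D.a
    rwa [D.ha] at h
  obtain ⟨f, hfr, hfs⟩ := semiDihedral_hom hxN D.hσ D.hσa
  have hinj := semiDihedral_injective D.ha f hfr
  have hone : (1 : ZMod (2 ^ (m + 3))) = ((1 : ℕ) : ZMod (2 ^ (m + 3))) := by simp
  have hf1 : f (SemiDihedral.rot 1) = D.a := by rw [hfr, hone, zexp_natCast hxN, pow_one]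
  refine ⟨_, inferInstance, inferInstance, f, hinj, ?_,
    ⟨_, inferInstance, GeneralLinearGroup.det, ?_, ?_, ?_⟩, ?_⟩
  · obtain ⟨r, hr, hcard⟩ := D.hcard
    obtain ⟨d, hd⟩ := D.hq1
    refine sylow_of_card hinj (r := (2 * d + 1) * r) SemiDihedral.natCard ?_
      ((odd_two_mul_add_one d).mul hr)
    rw [hcard, hd]
    ring
  · rw [hf1]; exact D.det_a.2
  · rw [hf1]; exact D.det_a.1
  · rw [hf1, hfs, zexp_zero, one_mul]
    refine (eq_inv_of_mul_eq_one_right D.det_aσ).trans ?_
    rw [inv_eq_iff_mul_eq_one, ← pow_two, D.det_a.1]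
  · rw [hfs, hfr, show SemiDihedral.q m = ((2 ^ (m + 1) : ℕ) : ZMod (2 ^ (m + 3))) from rfl,
      zexp_natCast hxN, hone, zexp_natCast hxN, pow_one]
    obtain ⟨g, -, hg⟩ := exists_det_one_conj D.h4
      (show D.a * D.σ * (D.a * D.σ) = -1 by simpa using D.sq_aσ 1 odd_one)
      (show D.a ^ 2 ^ (m + 1) * D.a ^ 2 ^ (m + 1) = -1 by
        rw [← pow_add, ← two_mul, ← pow_succ']; exact D.has)
    exact _root_.isConj_iff.2 ⟨g, hg⟩

theorem semiDihedral_fourClass_aux {m : ℕ} (D : Datum (m + 2)) :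
    ∃ (G : Type) (_ : Group G) (_ : Finite G) (f : SemiDihedral m →* G),
      Function.Injective f ∧ (∃ T : Sylow 2 G, (T : Subgroup G) = f.range) ∧
      (∃ θ : G →* Multiplicative (ZMod 2),
        θ (f (SemiDihedral.rot 1)) = Multiplicative.ofAdd 1 ∧ θ (f (SemiDihedral.ref 0)) = 1) ∧
      IsConj (f (SemiDihedral.rot (SemiDihedral.h m))) (f (SemiDihedral.ref 0)) := by
  classical
  haveI : NeZero (2 ^ (m + 3)) := ⟨pow_ne_zero _ two_ne_zero⟩
  let F := GaloisField D.p 2
  haveI : Fintype F := Fintype.ofFinite F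
  have hF : Fintype.card F = D.p ^ 2 := by
    rw [← Nat.card_eq_fintype_card, GaloisField.card D.p 2 two_ne_zero]
  obtain ⟨r, hr, hr2⟩ := D.sq_sub_one
  obtain ⟨r', hr'⟩ := hr
  have hpow : ∀ u : Fˣ, u ^ (D.p ^ 2 - 1) = 1 := fun u => by
    rw [← hF, ← Fintype.card_units]; exact pow_card_eq_one
  obtain ⟨μ, hμ⟩ := exists_orderOf_units (F := F) (d := 2 ^ (m + 3)) (by
    rw [hF, hr2]; exact dvd_mul_right _ _)
  have h2ne : (2 : F) ≠ 0 := by
    intro h
    refine D.two_ne ((algebraMap (ZMod D.p) F).injective ?_)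
    rw [map_ofNat, map_zero, h]
  have hnegne : (-1 : Fˣ) ≠ 1 := by
    intro h
    have h' : (-1 : F) = 1 := congrArg Units.val h
    exact h2ne (by linear_combination -h')
  have hunit : ∀ u : Fˣ, u * u = 1 → u = 1 ∨ u = -1 := fun u hu => by
    rcases mul_self_eq_one_iff.1 (congrArg Units.val hu : ((u : F) * u) = 1) with h | h
    · exact Or.inl (Units.ext h)
    · exact Or.inr (Units.ext h)
  have hμh : μ ^ 2 ^ (m + 2) = -1 := by
    rcases hunit (μ ^ 2 ^ (m + 2)) (by
      rw [← pow_add, ← two_mul, ← pow_succ']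
      have h := pow_orderOf_eq_one μ
      rwa [hμ] at h) with h | h
    · exfalso
      have h1 := Nat.le_of_dvd (by positivity) (hμ ▸ orderOf_dvd_of_pow_eq_one h)
      have := Nat.pow_lt_pow_right (a := 2) one_lt_two (show m + 2 < m + 3 by omega)
      omega
    · exact h
  -- the quadratic character
  set N := (D.p ^ 2 - 1) / 2 with hN
  have hN2 : 2 * N = D.p ^ 2 - 1 := Nat.mul_div_cancel' (by
    rw [hr2]; exact Dvd.dvd.mul_right (dvd_pow_self 2 (by omega)) _)
  have hpm : ∀ u : Fˣ, u ^ N = 1 ∨ u ^ N = -1 := fun u => hunit _ (by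
    rw [← pow_add, ← two_mul, hN2, hpow])
  let sqF : Fˣ →* Multiplicative (ZMod 2) :=
    { toFun := fun u => if u ^ N = 1 then 1 else Multiplicative.ofAdd 1
      map_one' := by simp
      map_mul' := fun u w => by
        rcases hpm u with hu | hu <;> rcases hpm w with hw | hw <;>
          simp [mul_pow, hu, hw, hnegne] <;> rfl }
  have hsqμ : sqF μ = Multiplicative.ofAdd 1 := by
    show (if _ then _ else _) = _
    rw [if_neg]
    rw [show N = 2 ^ (m + 2) * r by
      rw [hN, hr2, pow_succ' 2 (m + 2), mul_assoc, Nat.mul_div_cancel_left _ two_pos], pow_mul, hμh,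
      hr', Odd.neg_one_pow ⟨r', rfl⟩]
    exact hnegne
  let j : (ZMod D.p)ˣ →* Fˣ := Units.map (algebraMap (ZMod D.p) F).toMonoidHom
  have hsqj : ∀ u, sqF (j u) = 1 := by
    intro u
    obtain ⟨e, he⟩ := D.four_dvd
    show (if _ then _ else _) = _
    rw [if_pos]
    have hN' : N = (D.p - 1) * (2 * e + 1) := by
      have h5 := D.five_le
      have h1 : D.p = 4 * e + 1 := by omega
      rw [hN, h1, show (4 * e + 1) ^ 2 = 2 * (4 * e * (2 * e + 1)) + 1 by ring,
        show 4 * e + 1 - 1 = 4 * e by omega]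
      omega
    rw [← map_pow, hN', pow_mul, ZMod.units_pow_card_sub_one_eq_one, one_pow, map_one]
  have hsqneg : sqF (-1) = 1 := by
    rw [show (-1 : Fˣ) = j (-1) from Units.ext (by simp [j])]
    exact hsqj _
  have hsq2 : ∀ u : Fˣ, sqF (u * u) = 1 := fun u => by
    rw [map_mul]
    generalize sqF u = t
    revert t
    decide
  -- the field automorphism
  let φ : F ≃+* F := frobeniusEquiv F D.p
  have hφ : ∀ x, φ x = x ^ D.p := fun x => rfl
  have hφφ : ∀ x, φ (φ x) = x := fun x => by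
    rw [hφ, hφ, ← pow_mul, ← pow_two, ← hF, FiniteField.pow_card]
  let φg : GL (Fin 2) F →* GL (Fin 2) F := GeneralLinearGroup.map φ.toRingHom
  have hφgg : ∀ B, φg (φg B) = B := fun B => by
    refine Units.ext ?_
    ext a b
    exact hφφ _
  let φA : MulAut (GL (Fin 2) F) :=
    { toFun := φg, invFun := φg, left_inv := hφgg, right_inv := hφgg, map_mul' := map_mul φg }
  have hφAA : φA * φA = 1 := MulEquiv.ext hφgg
  let act : Multiplicative (ZMod 2) →* MulAut (GL (Fin 2) F) :=
    { toFun := fun e => if e = 1 then 1 else φA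
      map_one' := by simp
      map_mul' := fun e e' => by
        have hE : ∀ t : Multiplicative (ZMod 2), t = 1 ∨ t = Multiplicative.ofAdd 1 := by decide
        have hne : Multiplicative.ofAdd (1 : ZMod 2) ≠ 1 := by decide
        rcases hE e with rfl | rfl <;> rcases hE e' with rfl | rfl <;> simp [hne]
        rw [if_pos (by decide)]
        exact hφAA.symm }
  have hdetφ : ∀ B, GeneralLinearGroup.det (φg B) = (GeneralLinearGroup.det B) ^ D.p := fun B => by
    refine Units.ext ?_
    show Matrix.det (φ.toRingHom.mapMatrix (B : Matrix (Fin 2) (Fin 2) F)) = _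
    rw [← RingHom.map_det, Units.val_pow_eq_pow_val]
    exact hφ _
  let E := GL (Fin 2) F ⋊[act] Multiplicative (ZMod 2)
  let χ : E →* Multiplicative (ZMod 2) :=
    SemidirectProduct.lift (sqF.comp GeneralLinearGroup.det) (MonoidHom.id _) (by
      intro e
      refine MonoidHom.ext fun B => ?_
      show sqF (GeneralLinearGroup.det (act e B)) = e * sqF (GeneralLinearGroup.det B) * e⁻¹
      rw [mul_inv_cancel_comm]
      by_cases he : e = 1
      · simp [act, he]
      · rw [show act e = φA from if_neg he]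
        show sqF (GeneralLinearGroup.det (φg B)) = _
        rw [hdetφ, map_pow]
        obtain ⟨k, hk⟩ := D.p_odd
        have hodd : ∀ t : Multiplicative (ZMod 2), t ^ (2 * k + 1) = t := fun t => by
          rw [pow_succ, pow_mul, show t ^ 2 = 1 by revert t; decide, one_pow, one_mul]
        exact (congrArg (fun n => sqF (GeneralLinearGroup.det B) ^ n) hk).trans (hodd _))
  have hχ : ∀ x : E, χ x = sqF (GeneralLinearGroup.det x.left) * x.right := fun x => rfl
  let H : Subgroup E := χ.ker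
  have hsH : ∀ u : Fˣ, (SemidirectProduct.inl (GeneralLinearGroup.scalar (Fin 2) u) : E) ∈ H := by
    intro u
    rw [MonoidHom.mem_ker, hχ, SemidirectProduct.left_inl, SemidirectProduct.right_inl, mul_one,
      show GeneralLinearGroup.det (GeneralLinearGroup.scalar (Fin 2) u) = u * u from
        Units.ext (by simp [GeneralLinearGroup.scalar, pow_two]), hsq2]
  let s : Fˣ →* H := (SemidirectProduct.inl.comp (GeneralLinearGroup.scalar (Fin 2))).codRestrict H hsH
  have hφscalar : ∀ u : Fˣ, φg (GeneralLinearGroup.scalar (Fin 2) u) =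
      GeneralLinearGroup.scalar (Fin 2) (u ^ D.p) := by
    intro u
    refine Units.ext ?_
    ext a b
    show φ ((Matrix.scalar (Fin 2) (u : F)) a b) = Matrix.scalar (Fin 2) ((u ^ D.p : Fˣ) : F) a b
    by_cases hab : a = b <;> simp [hab, hφ, zero_pow D.hp.out.ne_zero]
  have hmk : ∀ (a b : GL (Fin 2) F) (e e' : Multiplicative (ZMod 2)),
      (⟨a, e⟩ : E) * ⟨b, e'⟩ = ⟨a * act e b, e * e'⟩ := fun a b e e' => rfl
  have hone1 : Multiplicative.ofAdd (1 : ZMod 2) ≠ 1 := by decide
  have hadd11 : Multiplicative.ofAdd (1 : ZMod 2) * Multiplicative.ofAdd 1 = 1 := by decide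
  have hact1 : act (Multiplicative.ofAdd 1) = φA := by
    show (if Multiplicative.ofAdd (1 : ZMod 2) = 1 then (1 : MulAut (GL (Fin 2) F)) else φA) = φA
    rw [if_neg hone1]
  haveI : Finite E := Finite.of_equiv _ SemidirectProduct.equivProd.symm
  haveI : s.range.Normal := ⟨by
    rintro _ ⟨u, rfl⟩ ⟨x, hh⟩
    refine ⟨if x.right = 1 then u else u ^ D.p, Subtype.ext ?_⟩
    show (SemidirectProduct.inl _ : E) = x * SemidirectProduct.inl _ * x⁻¹
    have hconj : ∀ n : GL (Fin 2) F, x * (SemidirectProduct.inl n : E) * x⁻¹ =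
        SemidirectProduct.inl (x.left * act x.right n * x.left⁻¹) := fun n =>
      SemidirectProduct.ext
        (by
          show x.left * act x.right n * act (x.right * 1) (act x.right⁻¹ x.left⁻¹) = _
          rw [mul_one, ← MulAut.mul_apply, ← map_mul, mul_inv_cancel, map_one, MulAut.one_apply]
          rfl)
        (by
          show x.right * 1 * x.right⁻¹ = 1
          rw [mul_one, mul_inv_cancel])
    rw [hconj]
    refine congrArg _ ?_
    have hcomm : ∀ w : Fˣ, x.left * GeneralLinearGroup.scalar (Fin 2) w =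
        GeneralLinearGroup.scalar (Fin 2) w * x.left := fun w => Units.ext
      ((Matrix.scalar_commute (w : F) (fun r => Commute.all _ r) _).eq).symm
    by_cases he : x.right = 1
    · rw [if_pos he, he, map_one, MulAut.one_apply, hcomm, mul_inv_cancel_right]
    · rw [if_neg he, show act x.right = φA from if_neg he]
      show _ = x.left * φg _ * x.left⁻¹
      rw [hφscalar, hcomm, mul_inv_cancel_right]⟩
  set K := s.range
  set π := QuotientGroup.mk' K
  have hπ : ∀ u, π (s u) = 1 := fun u => (QuotientGroup.eq_one_iff _).2 ⟨u, rfl⟩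
  have hdd : ∀ a b : Fˣ, GeneralLinearGroup.det (diagHom ![a, b]) = a * b := fun a b => by
    refine Units.ext ?_
    show Matrix.det (diagHom ![a, b] : Matrix (Fin 2) (Fin 2) F) = _
    rw [diagHom_val, det_fin_two]
    simp
  have hdswap : GeneralLinearGroup.det (swapGL : GL (Fin 2) F) = -1 := by
    refine Units.ext ?_
    show Matrix.det !![(0 : F), 1; 1, 0] = _
    rw [det_fin_two_of]
    simp
  have hX : (⟨diagHom ![μ, 1], Multiplicative.ofAdd 1⟩ : E) ∈ H := by
    rw [MonoidHom.mem_ker, hχ, hdd, mul_one, hsqμ]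
    exact hadd11
  have hY : (⟨swapGL, 1⟩ : E) ∈ H := by
    rw [MonoidHom.mem_ker, hχ, hdswap, hsqneg, one_mul]
  let X : H := ⟨_, hX⟩
  let Y : H := ⟨_, hY⟩
  have hφμ : μ ^ D.p = -μ := by
    have h1 : μ ^ (D.p - 1) = -1 := by rw [D.hc, pow_mul, hμh, Odd.neg_one_pow ⟨D.c, rfl⟩]
    refine (congrArg (fun n => μ ^ n) (show D.p = D.p - 1 + 1 by have := D.five_le; omega)).trans ?_
    rw [pow_succ, h1, neg_one_mul]
  have hφd : φg (diagHom ![μ, 1]) = diagHom ![-μ, 1] := by
    refine Units.ext ?_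
    ext a b
    show φ ((diagHom ![μ, 1] : Matrix (Fin 2) (Fin 2) F) a b) = _
    rw [hφ, ← hφμ]
    fin_cases a <;> fin_cases b <;> simp [diagHom_val, Matrix.diagonal, zero_pow D.hp.out.ne_zero]
  have hpowl : ∀ (B : GL (Fin 2) F) (k : ℕ),
      ((⟨B, 1⟩ : E)) ^ k = ⟨B ^ k, 1⟩ := fun B k =>
    (map_pow (SemidirectProduct.inl : GL (Fin 2) F →* E) B k).symm
  have hXX : ((X * X : H) : E) = ⟨diagHom ![-(μ * μ), 1], 1⟩ := by
    rw [Subgroup.coe_mul]
    refine SemidirectProduct.ext ?_ hadd11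
    show diagHom ![μ, 1] * act (Multiplicative.ofAdd 1) (diagHom ![μ, 1]) = _
    rw [hact1]
    show diagHom ![μ, 1] * φg (diagHom ![μ, 1]) = _
    rw [hφd, ← map_mul]
    congr 1
    funext i
    fin_cases i <;> simp
  have hXh : ((X ^ 2 ^ (m + 2) : H) : E) = ⟨diagHom ![-1, 1], 1⟩ := by
    rw [show 2 ^ (m + 2) = 2 * 2 ^ (m + 1) from pow_succ' 2 (m + 1), pow_mul, pow_two,
      SubgroupClass.coe_pow, hXX, hpowl, ← map_pow]
    refine SemidirectProduct.ext (congrArg diagHom ?_) rfl
    funext i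
    fin_cases i
    · show (-(μ * μ)) ^ 2 ^ (m + 1) = -1
      rw [Even.neg_pow (Nat.even_pow.2 ⟨even_two, by omega⟩), ← pow_two, ← pow_mul, ← pow_succ', hμh]
    · simp
  have hxN : π X ^ 2 ^ (m + 3) = 1 := by
    rw [← map_pow, show X ^ 2 ^ (m + 3) = 1 from ?_, map_one]
    refine Subtype.ext ?_
    rw [pow_succ, pow_mul, SubgroupClass.coe_pow, hXh, hpowl, ← map_pow]
    refine SemidirectProduct.ext ?_ rfl
    show diagHom _ = 1
    rw [← map_one diagHom]
    congr 1
    funext i
    fin_cases i <;> simp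
  have hscal : ∀ a b : Fˣ, ∀ u, GeneralLinearGroup.scalar (Fin 2) u = diagHom ![a, b] → a = b := by
    intro a b u hu
    have e := fun i => congrArg (fun g : GL (Fin 2) F => (g : Matrix (Fin 2) (Fin 2) F) i i) hu
    refine Units.ext ?_
    have e0 := e 0
    have e1 := e 1
    simp [diagHom_val] at e0 e1
    rw [← e0, ← e1]
  have hxo : orderOf (π X) = 2 ^ (m + 3) := by
    haveI : Fact (Nat.Prime 2) := ⟨Nat.prime_two⟩
    refine orderOf_eq_prime_pow (fun h => ?_) hxN
    rw [← map_pow] at h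
    obtain ⟨u, hu⟩ := (QuotientGroup.eq_one_iff _).1 h
    have hu' := congrArg Subtype.val hu
    rw [hXh] at hu'
    exact hnegne (hscal (-1) 1 u (congrArg SemidirectProduct.left hu'))
  have hyy : π Y * π Y = 1 := by
    rw [← map_mul, show Y * Y = 1 from Subtype.ext ?_, map_one]
    refine SemidirectProduct.ext ?_ rfl
    show swapGL * act 1 swapGL = 1
    rw [map_one, MulAut.one_apply, swapGL_mul_self]
  have hc : π Y * π X * (π Y)⁻¹ = π X ^ (2 ^ (m + 2) - 1) := by
    refine mul_right_cancel (b := π X) ?_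
    rw [← pow_succ, Nat.sub_add_cancel Nat.one_le_two_pow, ← map_pow, ← map_inv, ← map_mul,
      ← map_mul, ← map_mul, show Y * X * Y⁻¹ * X = s μ * X ^ 2 ^ (m + 2) from ?_, map_mul, hπ,
      one_mul]
    have hYY : Y * Y = 1 := by
      refine Subtype.ext ((hmk _ _ _ _).trans (SemidirectProduct.ext ?_ (one_mul 1)))
      show swapGL * act 1 swapGL = 1
      rw [map_one, MulAut.one_apply, swapGL_mul_self]
    rw [inv_eq_of_mul_eq_one_right hYY]
    refine Subtype.ext ?_
    rw [Subgroup.coe_mul, Subgroup.coe_mul, Subgroup.coe_mul, Subgroup.coe_mul, hXh]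
    show (⟨swapGL, 1⟩ : E) * ⟨diagHom ![μ, 1], Multiplicative.ofAdd 1⟩ * ⟨swapGL, 1⟩ *
      ⟨diagHom ![μ, 1], Multiplicative.ofAdd 1⟩ = ⟨GeneralLinearGroup.scalar (Fin 2) μ, 1⟩ * _
    rw [hmk, hmk, hmk, hmk, mul_one, one_mul, map_one, MulAut.one_apply, MulAut.one_apply, hact1,
      hadd11, one_mul]
    refine SemidirectProduct.ext ?_ rfl
    show swapGL * diagHom ![μ, 1] * φg swapGL * φg (diagHom ![μ, 1]) = _
    rw [show φg swapGL = swapGL from Units.ext (by
        ext a b
        show φ ((swapGL : GL (Fin 2) F) a b) = (swapGL : GL (Fin 2) F) a b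
        fin_cases a <;> fin_cases b <;> simp [swapGL]), hφd]
    nth_rewrite 2 [← inv_eq_of_mul_eq_one_right (swapGL_mul_self (F := F))]
    rw [swapGL_conj]
    refine Units.ext ?_
    ext a b
    fin_cases a <;> fin_cases b <;>
      simp [diagHom_val, Matrix.diagonal, GeneralLinearGroup.scalar, Matrix.mul_apply,
        Fin.sum_univ_two]
  obtain ⟨f, hfr, hfs⟩ := semiDihedral_hom hxN hyy hc
  have hinj := semiDihedral_injective hxo f hfr
  have hf1 : f (SemiDihedral.rot 1) = π X := by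
    rw [hfr, show (1 : ZMod (2 ^ (m + 3))) = ((1 : ℕ) : ZMod (2 ^ (m + 3))) by simp,
      zexp_natCast hxN, pow_one]
  have hf0 : f (SemiDihedral.ref 0) = π Y := by rw [hfs, zexp_zero, one_mul]
  refine ⟨_, inferInstance, inferInstance, f, hinj, ?_, ?_, ?_⟩
  · have hH : Nat.card H = Nat.card (GL (Fin 2) F) := by
      have hsurj : Function.Surjective χ := fun e => ⟨SemidirectProduct.inr e, by
        rw [hχ]; simp⟩
      have h := Subgroup.card_eq_card_quotient_mul_card_subgroup χ.ker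
      rw [Nat.card_congr (QuotientGroup.quotientKerEquivOfSurjective χ hsurj).toEquiv,
        SemidirectProduct.card, mul_comm] at h
      exact (Nat.eq_of_mul_eq_mul_left Nat.card_pos h).symm
    have hK : Nat.card K = D.p ^ 2 - 1 := by
      have hsinj : Function.Injective s := fun a b h => by
        have h' := congrArg (fun q : H => (q : E).left) h
        have h3 := congrArg (fun g : GL (Fin 2) F => (g : Matrix (Fin 2) (Fin 2) F) 0 0) h'
        exact Units.ext (by simpa [s, GeneralLinearGroup.scalar] using h3)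
      rw [← Nat.card_congr (MonoidHom.ofInjective hsinj).toEquiv, Nat.card_units,
        Nat.card_eq_fintype_card, hF]
    have hG := Subgroup.card_eq_card_quotient_mul_card_subgroup K
    rw [hK, hH, CfsgLib.Classical.card_GL_eq] at hG
    simp only [Finset.prod_range_succ, Finset.prod_range_zero, one_mul, zero_add, pow_one,
      Nat.reduceMul, Nat.reduceSub, Nat.reduceDiv, Nat.reduceAdd, hF] at hG
    have hp1 : ∃ k, D.p ^ 2 + 1 = 2 * k ∧ Odd k := by
      obtain ⟨k, hk⟩ := D.p_odd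
      refine ⟨2 * k * k + 2 * k + 1, by rw [hk]; ring, ⟨k * k + k, by ring⟩⟩
    obtain ⟨k, hk, hkodd⟩ := hp1
    refine sylow_of_card hinj (r := D.p * D.p * r * k) SemiDihedral.natCard ?_
      (((D.p_odd.mul D.p_odd).mul ⟨r', hr'⟩).mul hkodd)
    refine Nat.eq_of_mul_eq_mul_right (show 0 < D.p ^ 2 - 1 by
      have := D.five_le; have := Nat.le_self_pow two_ne_zero D.p; omega) ?_
    rw [← hG, show (D.p ^ 2) ^ 2 - 1 = (D.p ^ 2 + 1) * (D.p ^ 2 - 1) by
      simpa using Nat.sq_sub_sq (D.p ^ 2) 1, hk, hr2]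
    ring
  · refine ⟨QuotientGroup.lift K (SemidirectProduct.rightHom.comp H.subtype) ?_, ?_, ?_⟩
    · rintro _ ⟨u, rfl⟩
      exact SemidirectProduct.right_inl (φ := act) (GeneralLinearGroup.scalar (Fin 2) u)
    · rw [hf1]; rfl
    · rw [hf0]; rfl
  · obtain ⟨P, hP⟩ : ∃ P : GL (Fin 2) F, (∃ u, GeneralLinearGroup.det P = j u) ∧
        P * diagHom ![-1, 1] * P⁻¹ = swapGL := by
      refine ⟨GeneralLinearGroup.mkOfDetNeZero !![1, 1; -1, 1] (by
        rw [det_fin_two_of]; simpa [one_add_one_eq_two] using h2ne),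
        ⟨Units.mk0 2 D.two_ne, Units.ext ?_⟩, ?_⟩
      · show Matrix.det !![(1 : F), 1; -1, 1] = algebraMap (ZMod D.p) F 2
        rw [det_fin_two_of, map_ofNat]; ring
      rw [mul_inv_eq_iff_eq_mul]
      refine Units.ext ?_
      show (!![1, 1; -1, 1] : Matrix (Fin 2) (Fin 2) F) *
          (Matrix.diagonal fun i => ((![-1, 1] : Fin 2 → Fˣ) i : F)) = !![0, 1; 1, 0] * !![1, 1; -1, 1]
      ext a b
      fin_cases a <;> fin_cases b <;> simp [Matrix.mul_apply, Fin.sum_univ_two, Matrix.diagonal] <;>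
        first | exact neg_neg (1 : F) | exact neg_neg _ | linear_combination (0 : F)
    obtain ⟨⟨u, hu⟩, hP⟩ := hP
    have hPH : (⟨P, 1⟩ : E) ∈ H := by rw [MonoidHom.mem_ker, hχ, hu, hsqj, one_mul]
    refine _root_.isConj_iff.2 ⟨π ⟨_, hPH⟩, ?_⟩
    rw [hf0, hfr, show SemiDihedral.h m = ((2 ^ (m + 2) : ℕ) : ZMod (2 ^ (m + 3))) from rfl,
      zexp_natCast hxN, ← map_pow, ← map_inv, ← map_mul, ← map_mul]
    refine congrArg π (Subtype.ext ?_)
    rw [Subgroup.coe_mul, Subgroup.coe_mul, Subgroup.coe_inv, hXh, mul_inv_eq_iff_eq_mul]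
    show (⟨P, 1⟩ : E) * ⟨diagHom ![-1, 1], 1⟩ = ⟨swapGL, 1⟩ * ⟨P, 1⟩
    rw [hmk, hmk, map_one, MulAut.one_apply, MulAut.one_apply, ← hP, inv_mul_cancel_right]

theorem semiDihedral_fourClass (m : ℕ) :
    ∃ (G : Type) (_ : Group G) (_ : Finite G) (f : SemiDihedral m →* G),
      Function.Injective f ∧ (∃ T : Sylow 2 G, (T : Subgroup G) = f.range) ∧
      (∃ θ : G →* Multiplicative (ZMod 2),
        θ (f (SemiDihedral.rot 1)) = Multiplicative.ofAdd 1 ∧ θ (f (SemiDihedral.ref 0)) = 1) ∧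
      IsConj (f (SemiDihedral.rot (SemiDihedral.h m))) (f (SemiDihedral.ref 0)) :=
  (exists_datum (m + 2) (by omega)).elim semiDihedral_fourClass_aux

end CfsgLib.Fusion.TwoRank
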