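import Cfsg.Agent.Lib.Fusion.TwoTypes.Simple
import Cfsg.Agent.Lib.TwoGroups.FusionTools

/-!
Examples with two active classes on semidihedral and wreathed two-groups.
-/

set_option autoImplicit false

namespace CfsgLib.Fusion.TwoRank

open CfsgLib.TwoGroups

/-- Every nontrivial character of a Sylow two-subgroup of a simple group is moved by fusion. -/
theorem exists_fusing {G M : Type} [Group G] [Finite G] [IsSimpleGroup G] [Group M]
    (T : Sylow 2 G) (e : (T : Subgroup G) ≃* M) (hM : 2 < Nat.card M) :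
    ∃ (G : Type) (_ : Group G) (_ : Finite G) (f : M →* G),
      Function.Injective f ∧ (∃ T : Sylow 2 G, (T : Subgroup G) = f.range) ∧
      ∀ χ : M →* Multiplicative (ZMod 2), χ ≠ 1 → ∃ x y, IsConj (f x) (f y) ∧ χ x ≠ χ y := by
  haveI : Fact (Nat.Prime 2) := ⟨Nat.prime_two⟩
  refine ⟨G, inferInstance, inferInstance, (T : Subgroup G).subtype.comp e.symm.toMonoidHom,
    (T : Subgroup G).subtype_injective.comp e.symm.injective, ⟨T, ?_⟩, fun χ hχ => ?_⟩
  · ext y
    exact ⟨fun hy => ⟨e ⟨y, hy⟩, congrArg Subtype.val (e.symm_apply_apply ⟨y, hy⟩)⟩,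
      fun ⟨s, hs⟩ => hs ▸ (e.symm s).2⟩
  by_contra hcon
  push Not at hcon
  obtain ⟨Φ, hΦ⟩ := exists_hom_of_fusion_invariant (T : Subgroup G) (χ.comp e.toMonoidHom)
    (fun x y ⟨g, hg⟩ => by
      refine hcon (e x) (e y) (_root_.isConj_iff.2 ⟨g, ?_⟩)
      simpa using hg)
  rcases Φ.normal_ker.eq_bot_or_eq_top with h | h
  · have hinj := (MonoidHom.ker_eq_bot_iff Φ).1 h
    have h1 := Nat.card_le_card_of_injective _ hinj
    rw [Nat.card_eq_fintype_card (α := Multiplicative (ZMod 2)), Fintype.card_multiplicative,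
      ZMod.card] at h1
    have h2 := (T : Subgroup G).card_le_card_group
    rw [Nat.card_congr e.toEquiv] at h2
    omega
  · refine hχ (MonoidHom.ext fun s => ?_)
    have h1 := hΦ (e.symm s)
    rw [MonoidHom.mem_ker.1 (h.ge (Subgroup.mem_top _))] at h1
    obtain ⟨k, hk⟩ : Odd (T : Subgroup G).index := by
      rw [← Nat.not_even_iff_odd, even_iff_two_dvd]
      exact T.not_dvd_index
    have h2 : ∀ t : Multiplicative (ZMod 2), t ^ (2 * k + 1) = t := fun t => by
      rw [pow_succ, pow_mul, show t ^ 2 = 1 from pow_card_eq_one (x := t), one_pow, one_mul]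
    rw [hk, h2] at h1
    simpa using h1.symm

theorem semiDihedral_twoClass (m : ℕ) :
    ∃ (G : Type) (_ : Group G) (_ : Finite G) (f : SemiDihedral m →* G),
      Function.Injective f ∧ (∃ T : Sylow 2 G, (T : Subgroup G) = f.range) ∧
      ∀ χ : SemiDihedral m →* Multiplicative (ZMod 2), χ ≠ 1 →
        ∃ x y, IsConj (f x) (f y) ∧ χ x ≠ χ y := by
  have : Fact (Nat.Prime 2) := ⟨Nat.prime_two⟩
  have hM : 2 < Nat.card (SemiDihedral m) := by
    rw [SemiDihedral.natCard, pow_succ]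
    have := Nat.pow_le_pow_right two_pos (show 1 ≤ m + 3 by omega)
    omega
  obtain ⟨q, hq, hmod⟩ := exists_prime_residue (m + 2) (by omega)
  have : Fact q.Prime := ⟨hq⟩
  obtain ⟨c, hc, d, hd⟩ := residue_facts (q := q) (by omega) hmod
  have hK : Fintype.card (ZMod q) = q := ZMod.card q
  have h4 : Fintype.card (ZMod q) % 4 = 3 := by
    rw [hK]
    have : q + 1 = 4 * (2 ^ m * (2 * c + 1)) := by rw [hc]; ring
    omega
  have hodd : Fintype.card (ZMod q) % 2 = 1 := by omega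
  obtain ⟨P⟩ := (inferInstance : Nonempty (Sylow 2 (GL (Fin 2) (ZMod q))))
  obtain ⟨m', hm', ⟨e'⟩⟩ := CfsgLib.TwoGroups.SemiDihedral.of_isQuasiDihedral
    (CfsgLib.TwoGroups.LinearSylowTwo.gl_quasiDihedral P h4)
  have hcard : Nat.card (P : Subgroup (GL (Fin 2) (ZMod q))) = 2 ^ (m + 4) := by
    refine CfsgLib.TwoGroups.LinearSylowTwo.card_sylow_two P
      (M := q * ((2 * c + 1) * ((2 * d + 1) * (2 * d + 1)))) ?_ ?_
    · rw [CfsgLib.Classical.card_GL_eq]
      simp only [Finset.prod_range_succ, Finset.prod_range_zero, one_mul, zero_add, pow_one,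
        Nat.reduceMul, Nat.reduceSub, Nat.reduceDiv, Nat.reduceAdd]
      rw [hK, show q ^ 2 - 1 = (q + 1) * (q - 1) by simpa using Nat.sq_sub_sq q 1, hd, hc]
      ring
    · exact (Nat.odd_iff.2 (by omega)).mul ((odd_two_mul_add_one c).mul
        ((odd_two_mul_add_one d).mul (odd_two_mul_add_one d)))
  obtain rfl : m' = m := by have := Nat.pow_right_injective le_rfl (hm'.symm.trans hcard); omega
  obtain ⟨T⟩ := (inferInstance : Nonempty (Sylow 2 (Matrix.ProjectiveSpecialLinearGroup (Fin 3) (ZMod q))))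
  obtain ⟨i⟩ := pslThree_sylow_equiv hodd P T
  have : IsSimpleGroup (Matrix.ProjectiveSpecialLinearGroup (Fin 3) (ZMod q)) :=
    CfsgLib.Classical.isSimpleGroup_PSL le_rfl
  exact exists_fusing T (i.symm.trans e') hM

theorem wreath_twoClass (m : ℕ) :
    ∃ (G : Type) (_ : Group G) (_ : Finite G) (f : WreathTwo m →* G),
      Function.Injective f ∧ (∃ T : Sylow 2 G, (T : Subgroup G) = f.range) ∧
      ∀ χ : WreathTwo m →* Multiplicative (ZMod 2), χ ≠ 1 →
        ∃ x y, IsConj (f x) (f y) ∧ χ x ≠ χ y := by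
  have : Fact (Nat.Prime 2) := ⟨Nat.prime_two⟩
  have hM : 2 < Nat.card (WreathTwo m) := by
    rw [WreathTwo.natCard, pow_succ]
    have := Nat.pow_le_pow_right two_pos (show 1 ≤ 2 * (m + 2) by omega)
    omega
  obtain ⟨q, -, hq, hmod⟩ := Nat.forall_exists_prime_gt_and_modEq 0
    (q := 2 ^ (m + 3)) (a := 2 ^ (m + 2) + 1) (pow_ne_zero _ two_ne_zero) (by
      refine Nat.Coprime.pow_right _ (Nat.coprime_two_right.2 ?_)
      exact ⟨2 ^ (m + 1), by rw [pow_succ 2 (m + 1)]; ring⟩)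
  have hlt : 2 ^ (m + 2) + 1 < 2 ^ (m + 3) := by
    have := Nat.pow_le_pow_right two_pos (show 2 ≤ m + 2 by omega)
    rw [pow_succ 2 (m + 2)]; omega
  have hmod' : q % 2 ^ (m + 3) = 2 ^ (m + 2) + 1 := Eq.trans hmod (Nat.mod_eq_of_lt hlt)
  have hdm := Nat.div_add_mod q (2 ^ (m + 3))
  rw [hmod'] at hdm
  obtain ⟨c, hc⟩ : ∃ c, q = 2 ^ (m + 2) * (2 * c + 1) + 1 :=
    by
      generalize q / 2 ^ (m + 3) = t at hdm
      exact ⟨t, by rw [← hdm, pow_succ 2 (m + 2)]; ring⟩
  have : Fact q.Prime := ⟨hq⟩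
  have hK : Fintype.card (ZMod q) = q := ZMod.card q
  have h4 : Fintype.card (ZMod q) % 4 = 1 := by
    rw [hK]
    have : q = 4 * (2 ^ m * (2 * c + 1)) + 1 := by rw [hc]; ring
    omega
  have hodd : Fintype.card (ZMod q) % 2 = 1 := by omega
  obtain ⟨P⟩ := (inferInstance : Nonempty (Sylow 2 (GL (Fin 2) (ZMod q))))
  obtain ⟨m', hm', ⟨e'⟩⟩ := CfsgLib.TwoGroups.WreathTwo.of_isWreathed
    (CfsgLib.TwoGroups.LinearSylowTwo.gl_wreathed P h4)
  have hcard : Nat.card (P : Subgroup (GL (Fin 2) (ZMod q))) = 2 ^ (2 * (m + 2) + 1) := by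
    refine CfsgLib.TwoGroups.LinearSylowTwo.card_sylow_two P
      (M := q * ((2 * c + 1) * (2 * c + 1) * (2 ^ (m + 1) * (2 * c + 1) + 1))) ?_ ?_
    · rw [CfsgLib.Classical.card_GL_eq]
      simp only [Finset.prod_range_succ, Finset.prod_range_zero, one_mul, zero_add, pow_one,
        Nat.reduceMul, Nat.reduceSub, Nat.reduceDiv, Nat.reduceAdd]
      rw [hK, show q ^ 2 - 1 = (q + 1) * (q - 1) by simpa using Nat.sq_sub_sq q 1,
        show q - 1 = 2 ^ (m + 2) * (2 * c + 1) by omega,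
        show q + 1 = 2 * (2 ^ (m + 1) * (2 * c + 1) + 1) by rw [hc]; ring]
      ring
    · exact (Nat.odd_iff.2 (by omega)).mul (((odd_two_mul_add_one c).mul (odd_two_mul_add_one c)).mul
        (Even.add_one (Even.mul_right (Nat.even_pow.2 ⟨even_two, by omega⟩) _)))
  obtain rfl : m' = m := by have := Nat.pow_right_injective le_rfl (hm'.symm.trans hcard); omega
  obtain ⟨T⟩ := (inferInstance : Nonempty (Sylow 2 (Matrix.ProjectiveSpecialLinearGroup (Fin 3) (ZMod q))))
  obtain ⟨i⟩ := pslThree_sylow_equiv hodd P T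
  have : IsSimpleGroup (Matrix.ProjectiveSpecialLinearGroup (Fin 3) (ZMod q)) :=
    CfsgLib.Classical.isSimpleGroup_PSL le_rfl
  exact exists_fusing T (i.symm.trans e') hM

end CfsgLib.Fusion.TwoRank
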