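import Cfsg.Agent.Lib.Fusion.TwoRank.Examples.Groups

/-!
Examples: special and projective special linear groups of degree two, with two active classes.
-/

set_option autoImplicit false

namespace CfsgLib.Fusion.TwoRank

open CfsgLib.TwoGroups
open Matrix (SpecialLinearGroup ProjectiveSpecialLinearGroup det_fin_two det_fin_two_of)
open scoped Matrix MatrixGroups

theorem special_twoClass_aux {w : ℕ} (D : Datum (w + 3)) :
    ∃ (x y : SL(2, ZMod D.p)), orderOf x = 2 ^ (w + 3) ∧ y * y = x ^ 2 ^ (w + 2) ∧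
      y * x * y⁻¹ = x⁻¹ ∧ x ^ 2 ^ (w + 2) ∈ Subgroup.center SL(2, ZMod D.p) ∧
      IsConj (x ^ 2 ^ (w + 1)) y ∧ IsConj (x ^ 2 ^ (w + 1)) (y * x) := by
  set g : ZMod D.p := (D.g : ZMod D.p) with hgdef
  set gi : ZMod D.p := ((D.g⁻¹ : (ZMod D.p)ˣ) : ZMod D.p) with hgidef
  have hgg : g * gi = 1 := by rw [hgdef, hgidef, ← Units.val_mul, mul_inv_cancel, Units.val_one]
  let x : SL(2, ZMod D.p) := ⟨!![g, 0; 0, gi], by rw [det_fin_two_of]; simp [hgg]⟩
  let y : SL(2, ZMod D.p) := ⟨!![0, 1; -1, 0], by rw [det_fin_two_of]; simp⟩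
  have hmul : ∀ A B : SL(2, ZMod D.p), ((A * B : SL(2, ZMod D.p)) :
      Matrix (Fin 2) (Fin 2) (ZMod D.p)) = (A : Matrix (Fin 2) (Fin 2) (ZMod D.p)) * B :=
    fun A B => rfl
  have hinv : ∀ A : SL(2, ZMod D.p), ((A⁻¹ : SL(2, ZMod D.p)) :
      Matrix (Fin 2) (Fin 2) (ZMod D.p)) = Matrix.adjugate (A : Matrix (Fin 2) (Fin 2) (ZMod D.p)) :=
    fun A => rfl
  have hxp : ∀ k : ℕ, ((x ^ k : SL(2, ZMod D.p)) : Matrix (Fin 2) (Fin 2) (ZMod D.p)) =
      !![g ^ k, 0; 0, gi ^ k] := by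
    intro k
    induction k with
    | zero => rw [pow_zero, pow_zero, pow_zero]; simp [Matrix.one_fin_two]
    | succ k ih =>
      rw [pow_succ, hmul, ih]
      ext a b
      fin_cases a <;> fin_cases b <;> simp [x, Matrix.mul_apply, Fin.sum_univ_two, pow_succ]
  have hext : ∀ A B : SL(2, ZMod D.p),
      (A : Matrix (Fin 2) (Fin 2) (ZMod D.p)) = (B : Matrix (Fin 2) (Fin 2) (ZMod D.p)) → A = B :=
    fun A B h => Subtype.ext h
  have hx : orderOf x = 2 ^ (w + 3) := by
    rw [← D.hg, ← orderOf_units (y := D.g)]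
    refine orderOf_eq_orderOf_iff.2 fun n => ⟨fun h => ?_, fun h => ?_⟩
    · have := hxp n
      rw [h] at this
      have := (congrFun (congrFun this 0) 0).symm
      simpa using this
    · refine hext _ _ ?_
      rw [hxp]
      have hi : gi ^ n = 1 := by
        rw [← one_mul (gi ^ n), ← h, ← mul_pow, hgg, one_pow]
        exact h.symm
      rw [h, hi]
      simp [Matrix.one_fin_two]
  have hgh : g ^ 2 ^ (w + 2) = -1 := by
    have h := congrArg Units.val D.g_half
    simpa using h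
  have hgih : gi ^ 2 ^ (w + 2) = -1 := by
    have h : (g * gi) ^ 2 ^ (w + 2) = 1 := by rw [hgg, one_pow]
    rw [mul_pow, hgh] at h
    linear_combination -h
  have hgq : g ^ 2 ^ (w + 1) = (D.i : ZMod D.p) := by
    rw [hgdef, Datum.i, Units.val_pow_eq_pow_val]
    congr 2
  have hgiq : gi ^ 2 ^ (w + 1) = -(D.i : ZMod D.p) := by
    have h : (g * gi) ^ 2 ^ (w + 1) = 1 := by rw [hgg, one_pow]
    rw [mul_pow, hgq] at h
    linear_combination -(D.i : ZMod D.p) * h + gi ^ 2 ^ (w + 1) * D.i_mul_i'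
  have hyy : y * y = x ^ 2 ^ (w + 2) := by
    refine hext _ _ ?_
    rw [hmul, hxp, hgh, hgih]
    ext a b
    fin_cases a <;> fin_cases b <;> simp [y, Matrix.mul_apply, Fin.sum_univ_two]
  have hz : x ^ 2 ^ (w + 2) ∈ Subgroup.center SL(2, ZMod D.p) := by
    rw [Subgroup.mem_center_iff]
    intro k
    refine hext _ _ ?_
    rw [hmul, hmul, hxp, hgh, hgih]
    ext a b
    fin_cases a <;> fin_cases b <;> simp [Matrix.mul_apply, Fin.sum_univ_two]
  have hc : y * x * y⁻¹ = x⁻¹ := by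
    rw [eq_inv_iff_mul_eq_one]
    refine hext _ _ ?_
    rw [hmul, hmul, hmul,
      hinv, Matrix.adjugate_fin_two]
    ext a b
    fin_cases a <;> fin_cases b <;> simp [x, y, Matrix.mul_apply, Fin.sum_univ_two] <;>
      linear_combination hgg
  -- the matrix conjugating `diag(i, -i)` to `y`
  obtain ⟨c, hcdet⟩ : ∃ c : ZMod D.p, -2 * c * (D.i : ZMod D.p) = 1 :=
    ⟨(-2 * (D.i : ZMod D.p))⁻¹, by
      rw [mul_right_comm, mul_inv_cancel₀ (mul_ne_zero (neg_ne_zero.2 D.two_ne) D.i.ne_zero)]⟩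
  let P : SL(2, ZMod D.p) := ⟨!![c, 1; c * D.i, -D.i], by
    rw [det_fin_two_of]; linear_combination hcdet⟩
  let P' : SL(2, ZMod D.p) := ⟨!![c, gi; g * (c * D.i), -D.i], by
    rw [det_fin_two_of]; linear_combination hcdet - c * (D.i : ZMod D.p) * hgg⟩
  refine ⟨x, y, hx, hyy, hc, hz, _root_.isConj_iff.2 ⟨P, ?_⟩, _root_.isConj_iff.2 ⟨P', ?_⟩⟩
  · rw [mul_inv_eq_iff_eq_mul]
    refine hext _ _ ?_
    rw [hmul, hmul, hxp, hgq, hgiq]
    ext a b
    fin_cases a <;> fin_cases b <;> simp [P, y, Matrix.mul_apply, Fin.sum_univ_two] <;>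
      first
      | ring1
      | linear_combination c * D.i_mul_i'
      | linear_combination -c * D.i_mul_i'
      | linear_combination D.i_mul_i'
      | linear_combination -D.i_mul_i'
  · rw [mul_inv_eq_iff_eq_mul]
    refine hext _ _ ?_
    rw [hmul, hmul, hmul, hxp,
      hgq, hgiq]
    ext a b
    fin_cases a <;> fin_cases b <;> simp [P', x, y, Matrix.mul_apply, Fin.sum_univ_two] <;>
      first
      | ring1
      | linear_combination c * g * D.i_mul_i'
      | linear_combination -c * g * D.i_mul_i'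
      | linear_combination D.i_mul_i'
      | linear_combination -D.i_mul_i'
      | linear_combination (-c * (D.i : ZMod D.p)) * hgg
      | linear_combination (c * (D.i : ZMod D.p)) * hgg
      | linear_combination (D.i : ZMod D.p) * hgg
      | linear_combination -(D.i : ZMod D.p) * hgg
      | linear_combination hgg + D.i_mul_i'
      | linear_combination -hgg - D.i_mul_i'

theorem quaternion_twoClass (w : ℕ) :
    ∃ (G : Type) (_ : Group G) (_ : Finite G) (f : QuaternionGroup (2 ^ (w + 2)) →* G),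
      Function.Injective f ∧ (∃ T : Sylow 2 G, (T : Subgroup G) = f.range) ∧
      IsConj (f (.a (2 ^ (w + 1) : ℕ))) (f (.xa 0)) ∧
      IsConj (f (.a (2 ^ (w + 1) : ℕ))) (f (.xa 1)) := by
  obtain ⟨D⟩ := exists_datum (w + 3) (by omega)
  obtain ⟨x, y, hx, hyy, hc, -, hA, hB⟩ := special_twoClass_aux D
  haveI : NeZero (2 ^ (w + 2)) := ⟨pow_ne_zero _ two_ne_zero⟩
  haveI : NeZero (2 * 2 ^ (w + 2)) := ⟨mul_ne_zero two_ne_zero (pow_ne_zero _ two_ne_zero)⟩
  have hN : 2 * 2 ^ (w + 2) = 2 ^ (w + 3) := (pow_succ' 2 _).symm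
  have hxN : x ^ (2 * 2 ^ (w + 2)) = 1 := by rw [hN, ← hx, pow_orderOf_eq_one]
  obtain ⟨f, hfa, hfx⟩ := quaternion_hom hxN hyy hc
  have hinj := quaternion_injective (by
    intro h
    rw [show (2 : ZMod (2 * 2 ^ (w + 2))) = ((2 : ℕ) : ZMod (2 * 2 ^ (w + 2))) by norm_num,
      ZMod.natCast_eq_zero_iff] at h
    have := Nat.le_of_dvd two_pos h
    have := Nat.pow_le_pow_right two_pos (show 2 ≤ w + 2 by omega)
    omega) (hx.trans hN.symm) f hfa
  refine ⟨_, inferInstance, inferInstance, f, hinj, ?_, ?_, ?_⟩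
  · obtain ⟨r, hr, hr2⟩ := D.sq_sub_one
    refine sylow_of_card hinj (k := w + 4) (r := D.p * r) ?_ ?_ (D.p_odd.mul hr)
    · rw [Nat.card_eq_fintype_card, QuaternionGroup.card]
      ring
    · rw [D.natCard_SL, hr2]; ring
  · rw [hfa, hfx, zexp_zero, mul_one, zexp_natCast hxN]
    exact hA
  · rw [hfa, hfx, zexp_natCast hxN,
      show (1 : ZMod (2 * 2 ^ (w + 2))) = ((1 : ℕ) : ZMod (2 * 2 ^ (w + 2))) by simp,
      zexp_natCast hxN, pow_one]
    exact hB

theorem dihedral_twoClass (w : ℕ) :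
    ∃ (G : Type) (_ : Group G) (_ : Finite G) (f : DihedralGroup (2 ^ (w + 2)) →* G),
      Function.Injective f ∧ (∃ T : Sylow 2 G, (T : Subgroup G) = f.range) ∧
      IsConj (f (.r (half (w + 2)))) (f (.sr 0)) ∧
      IsConj (f (.r (half (w + 2)))) (f (.sr 1)) := by
  obtain ⟨D⟩ := exists_datum (w + 3) (by omega)
  obtain ⟨x, y, hx, hyy, hc, hz, hA, hB⟩ := special_twoClass_aux D
  haveI : NeZero (2 ^ (w + 2)) := ⟨pow_ne_zero _ two_ne_zero⟩
  set Z := Subgroup.center SL(2, ZMod D.p)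
  set π := QuotientGroup.mk' Z
  have hπ : ∀ z ∈ Z, π z = 1 := fun z hz => (QuotientGroup.eq_one_iff z).2 hz
  have hxN : π x ^ 2 ^ (w + 2) = 1 := by rw [← map_pow]; exact hπ _ hz
  have hxo : orderOf (π x) = 2 ^ (w + 2) := by
    haveI : Fact (Nat.Prime 2) := ⟨Nat.prime_two⟩
    refine orderOf_eq_prime_pow (n := w + 1) (fun h => ?_) hxN
    rw [← map_pow] at h
    have hm : x ^ 2 ^ (w + 1) ∈ Z := (QuotientGroup.eq_one_iff _).1 h
    -- a central element is alone in its class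
    obtain ⟨k, hk⟩ := _root_.isConj_iff.1 hA
    rw [Subgroup.mem_center_iff.1 hm k, mul_inv_cancel_right] at hk
    have hinv : x⁻¹ = x := by rw [← hc, ← hk, ((Commute.refl x).pow_left _).eq,
      mul_inv_cancel_right]
    have h2 : x ^ 2 = 1 := by rw [pow_two]; nth_rewrite 1 [← hinv]; exact inv_mul_cancel x
    have := Nat.le_of_dvd two_pos (hx ▸ orderOf_dvd_of_pow_eq_one h2)
    have := Nat.pow_le_pow_right two_pos (show 2 ≤ w + 3 by omega)
    omega
  obtain ⟨f, hfr, hfs⟩ := dihedral_hom hxN (y := π y)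
    (by rw [← map_mul, hyy]; exact hπ _ hz) (by rw [← map_inv, ← map_mul, ← map_mul, hc, map_inv])
  have hinj := dihedral_injective (by
    intro h
    rw [show (2 : ZMod (2 ^ (w + 2))) = ((2 : ℕ) : ZMod (2 ^ (w + 2))) by norm_num,
      ZMod.natCast_eq_zero_iff] at h
    have := Nat.le_of_dvd two_pos h
    have := Nat.pow_le_pow_right two_pos (show 2 ≤ w + 2 by omega)
    omega) hxo f hfr
  have hhalf : half (w + 2) = ((2 ^ (w + 1) : ℕ) : ZMod (2 ^ (w + 2))) := rfl
  refine ⟨_, inferInstance, inferInstance, f, hinj, ?_, ?_, ?_⟩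
  · obtain ⟨r, hr, hr2⟩ := D.sq_sub_one
    refine sylow_of_card hinj (k := w + 3) (r := D.p * r) (by rw [DihedralGroup.nat_card, ← pow_succ'])
      ?_ (D.p_odd.mul hr)
    have h := CfsgLib.Classical.Two.card_PSL_two (F := ZMod D.p)
    rw [ZMod.card, Nat.gcd_eq_left (dvd_trans (by norm_num) D.four_dvd), hr2] at h
    refine Nat.eq_of_mul_eq_mul_left two_pos (h.trans ?_)
    ring
  · rw [hfr, hfs, zexp_zero, mul_one, hhalf, zexp_natCast hxN, ← map_pow]
    exact π.map_isConj hA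
  · rw [hfr, hfs, hhalf, zexp_natCast hxN,
      show (1 : ZMod (2 ^ (w + 2))) = ((1 : ℕ) : ZMod (2 ^ (w + 2))) by simp,
      zexp_natCast hxN, pow_one, ← map_pow, ← map_mul]
    exact π.map_isConj hB

end CfsgLib.Fusion.TwoRank
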